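import Groth.Agent.H8.BoundSub

/-!
# A quasi-coherent module on a Noetherian space is the union of its coherent submodules
-/

set_option autoImplicit false
set_option backward.isDefEq.respectTransparency false
set_option backward.isDefEq.respectTransparency.types false
set_option linter.style.haveILetI false

universe u

open CategoryTheory CategoryTheory.Limits AlgebraicGeometry Opposite AlgSp
open Groth.Agent.Lib.EtMod Groth.Agent.H8.QcqsSite Groth.Agent.H8.BoundSub

namespace Groth.Agent.H8.CohUnion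

variable {S : Scheme.{u}} {X : Sp S} {M N : ModEt X}

/-- A morphism landing in a submodule lifts to its sheaf. -/
theorem exists_lift_closure (P : M.val.Submodule) (φ : N ⟶ M)
    (h : ∀ (E : EtOver X) (x : sectModEt N E), secMap φ E x ∈ (SubSheaf.closure P).obj (op E)) :
    ∃ ψ : N ⟶ SubSheaf.closureSheaf P, ψ ≫ SubSheaf.closureι P = φ := by
  refine ⟨⟨PresheafOfModules.homMk
    { app := fun Y => AddCommGrpCat.ofHom
        { toFun := fun x => ⟨φ.val.app Y x, h Y.unop x⟩
          map_zero' := Subtype.ext (map_zero (φ.val.app Y).hom)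
          map_add' := fun a b => Subtype.ext (map_add (φ.val.app Y).hom a b) }
      naturality := fun Y Y' g => by
        ext x
        exact Subtype.ext (PresheafOfModules.naturality_apply φ.val g x) }
    (fun Y r x => Subtype.ext (map_smul (φ.val.app Y).hom r x))⟩, ?_⟩
  exact SheafOfModules.hom_ext (PresheafOfModules.hom_ext fun Y => by ext x; rfl)

theorem injective_secMap_of_mono (φ : N ⟶ M) [Mono φ] (E : EtOver X) : Function.Injective (secMap φ E) := by
  haveI : Mono φ.val := inferInstanceAs (Mono ((SheafOfModules.forget _).map φ))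
  have h : Function.Injective (φ.val.app (op E)) := (ModuleCat.mono_iff_injective _).1
    (inferInstanceAs (Mono ((PresheafOfModules.evaluation _ (op E)).map φ.val)))
  exact h

/-- A quasi-coherent submodule is bounded by generators of its sections on the chart. -/
theorem bounded_of_span (hN : IsCart N) (φ : N ⟶ M) (E₀ : EtOver X)
    [IsAffine E₀.obj.left.left] (G : Set (sectModEt M E₀))
    (hG : LinearMap.range (secMap φ E₀) ≤ Submodule.span (fn E₀) G) (E : EtOver X) (x : sectModEt N E) :
    Bounded M E₀ G E (secMap φ E x) := by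
  intro W hW a b
  haveI := hW
  rw [← secMap_res]
  have hx : res N a x ∈ Submodule.span (fn W) (Set.range (res N b)) := by
    rw [span_res_eq_top hN]
    exact Submodule.mem_top
  generalize res N a x = z at hx ⊢
  induction hx using Submodule.span_induction with
  | mem y hy =>
    obtain ⟨y₀, rfl⟩ := hy
    rw [secMap_res]
    exact res_mem_span_res b (hG ⟨y₀, rfl⟩)
  | zero => rw [map_zero]; exact Submodule.zero_mem _
  | add y z _ _ hy hz => rw [map_add]; exact Submodule.add_mem _ hy hz
  | smul r y _ hy => rw [map_smul]; exact Submodule.smul_mem _ r hy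

/-- Finiteness of sections is local. -/
theorem finite_of_local (hM : IsCart M) {E : EtOver X} [IsAffine E.obj.left.left] (C : AffCover E)
    (hk : ∀ k, Module.Finite (fn (C.V k)) (sectModEt M (C.V k))) :
    Module.Finite (fn E) (sectModEt M E) := by
  have h : ∀ k, ∃ G : Finset (sectModEt M E),
      Submodule.span (fn (C.V k)) (res M (C.g k) '' (G : Set (sectModEt M E))) = ⊤ := fun k => by
    classical
    obtain ⟨T, hT⟩ := (hk k).fg_top
    have : ∀ t : T, ∃ G : Finset (sectModEt M E),
        (t : sectModEt M (C.V k)) ∈ Submodule.span (fn (C.V k)) (res M (C.g k) '' (G : Set (sectModEt M E))) :=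
      fun t => by
      obtain ⟨G', hG', ht⟩ := Submodule.mem_span_finite_of_mem_span
        (show (t : sectModEt M (C.V k)) ∈ Submodule.span (fn (C.V k)) (Set.range (res M (C.g k))) by
          rw [span_res_eq_top hM]; trivial)
      choose p hp using fun x : G' => hG' x.2
      refine ⟨Finset.univ.image p, Submodule.span_mono (fun x hx => ?_) ht⟩
      exact ⟨p ⟨x, hx⟩, by simp, hp ⟨x, hx⟩⟩
    choose G hG using this
    refine ⟨Finset.univ.biUnion G, eq_top_iff.2 ?_⟩
    rw [← hT, Submodule.span_le]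
    intro t ht
    refine Submodule.span_mono (Set.image_mono ?_) (hG ⟨t, ht⟩)
    intro x hx
    exact Finset.mem_biUnion.2 ⟨⟨t, ht⟩, Finset.mem_univ _, hx⟩
  choose G hG using h
  refine ⟨Submodule.fg_def.2 ⟨⋃ k, (G k : Set (sectModEt M E)), Set.finite_iUnion fun k => (G k).finite_toSet,
    eq_top_iff.2 fun m _ => mem_span_of_local hM C fun k => ?_⟩⟩
  exact Submodule.span_mono (Set.image_mono (Set.subset_iUnion (fun k => (G k : Set (sectModEt M E))) k))
    (hG k ▸ trivial)

/-- A submodule bounded by finitely many sections is coherent. -/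
theorem isFP_bSheaf [QuasiSeparatedSpace ↥S] (hqs : IsQuasiSeparatedSp X) (hX : IsLocNoethSp X)
    (hM : IsCart M) {E₀ : EtOver X} [IsAffine E₀.obj.left.left] (hs : RepWith @Surjective E₀.obj.hom)
    (G : Finset (sectModEt M E₀)) : (bSheaf M E₀ (G : Set (sectModEt M E₀))).IsFinitePresentation := by
  have hB := isCart_bSheaf (G := (G : Set (sectModEt M E₀))) hqs hM
  haveI := isNoetherianRing_fn hX E₀
  haveI h₀ : Module.Finite (fn E₀) (sectModEt (bSheaf M E₀ (G : Set (sectModEt M E₀))) E₀) := by
    haveI : Module.Finite (fn E₀) (Submodule.span (fn E₀) (G : Set (sectModEt M E₀))) :=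
      Module.Finite.iff_fg.2 (Submodule.fg_span G.finite_toSet)
    refine Module.Finite.of_injective ((secMap (bι M E₀ (G : Set (sectModEt M E₀))) E₀).codRestrict
      (Submodule.span (fn E₀) (G : Set (sectModEt M E₀))) fun x => range_bι_le_span hM ⟨x, rfl⟩) ?_
    intro x y h
    have h' : secMap (bι M E₀ (G : Set (sectModEt M E₀))) E₀ x =
        secMap (bι M E₀ (G : Set (sectModEt M E₀))) E₀ y := congrArg (fun z : Submodule.span (fn E₀) (G : Set (sectModEt M E₀)) => (z : sectModEt M E₀)) h
    exact secMap_bι_injective E₀ h'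
  refine isFinitePresentation_of_finite hX hB fun E _ => ?_
  have hR : Sieve.ofArrows (fun p : {p : Σ W : EtOver X, (W ⟶ E) × (W ⟶ E₀) // IsAffine p.1.obj.left.left} => p.1.1)
      (fun p => p.1.2.1) ∈ etTop X E := ofArrows_mem_etTop _ _ fun x => by
    have hsurj : Surjective (EtOver.prodFst E E₀).hom.left.left :=
      (AlgSp.repWith_yon_map_iff _ _).1 (Groth.Agent.Lib.AlgSpace.repWith_baseChange
        ((E₀.property.1.isPullback E.obj.hom)) hs)
    obtain ⟨z, hz⟩ := hsurj.surj x
    obtain ⟨W, j, hW, w, hw⟩ := exists_affine_open_obj z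
    refine ⟨⟨⟨W, j ≫ EtOver.prodFst E E₀, j ≫ EtOver.prodSnd E E₀⟩, hW⟩, w, ?_⟩
    change (EtOver.prodFst E E₀).hom.left.left (j.hom.left.left w) = x
    rw [hw]
    exact hz
  obtain ⟨C, hC⟩ := exists_affCover hR
  refine finite_of_local hB C fun k => ?_
  obtain ⟨_, c, _, ⟨p⟩, -⟩ := hC k
  obtain ⟨n, s, hs'⟩ := Module.Finite.exists_fin (R := fn E₀)
    (M := sectModEt (bSheaf M E₀ (G : Set (sectModEt M E₀))) E₀)
  refine ⟨Submodule.fg_def.2 ⟨_, (Set.finite_range s).image (res _ (c ≫ p.1.2.2)), eq_top_iff.2 ?_⟩⟩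
  rw [← span_res_eq_top hB (c ≫ p.1.2.2), Submodule.span_le]
  rintro _ ⟨x, rfl⟩
  exact res_mem_span_res _ (hs' ▸ Submodule.mem_top)

section Colimit

variable [QuasiSeparatedSpace ↥S] (hqs : IsQuasiSeparatedSp X) (hX : IsLocNoethSp X) (hM : IsCart M)
  {E₀ : EtOver X} [IsAffine E₀.obj.left.left] (hs : RepWith @Surjective E₀.obj.hom)

variable (M) in
/-- Coherent subobjects. -/
abbrev CohSub : ObjectProperty (MonoOver M) := fun N => SheafOfModules.IsFinitePresentation N.obj.left

include hqs hX hM hs in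
/-- Coherent subobjects with a common bound. -/
theorem exists_upper (G : Finset (sectModEt M E₀)) :
    ∃ Z : (CohSub M).FullSubcategory, ∀ (E : EtOver X) (m : sectModEt M E),
      Bounded M E₀ (G : Set (sectModEt M E₀)) E m → m ∈ Set.range (secMap Z.obj.obj.hom E) :=
  ⟨⟨MonoOver.mk (bι M E₀ (G : Set (sectModEt M E₀))), isFP_bSheaf hqs hX hM hs G⟩,
    fun _ m h => (mem_range_bι hM m).2 h⟩

include hqs hX hM hs in
/-- Any family of finitely many coherent subobjects has an upper bound. -/
theorem exists_cocone (N₁ N₂ : (CohSub M).FullSubcategory) :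
    ∃ (Z : (CohSub M).FullSubcategory) (_ : N₁ ⟶ Z) (_ : N₂ ⟶ Z), True := by
  classical
  haveI := N₁.property
  haveI := N₂.property
  haveI := finite_of_isFinitePresentation (M := N₁.obj.obj.left) E₀
  haveI := finite_of_isFinitePresentation (M := N₂.obj.obj.left) E₀
  obtain ⟨T₁, hT₁⟩ := (Module.Finite.range (secMap N₁.obj.obj.hom E₀)).fg_top.map
    (LinearMap.range (secMap N₁.obj.obj.hom E₀)).subtype
  obtain ⟨T₂, hT₂⟩ := (Module.Finite.range (secMap N₂.obj.obj.hom E₀)).fg_top.map
    (LinearMap.range (secMap N₂.obj.obj.hom E₀)).subtype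
  rw [Submodule.map_subtype_top] at hT₁ hT₂
  let G := T₁ ∪ T₂
  let Z : (CohSub M).FullSubcategory :=
    ⟨MonoOver.mk (bι M E₀ (G : Set (sectModEt M E₀))), isFP_bSheaf hqs hX hM hs G⟩
  have key : ∀ (N : (CohSub M).FullSubcategory) (T : Finset (sectModEt M E₀)),
      Submodule.span (fn E₀) (T : Set (sectModEt M E₀)) = LinearMap.range (secMap N.obj.obj.hom E₀) →
      T ⊆ G → Nonempty (N ⟶ Z) := fun N T hT hsub => by
    haveI := N.property
    obtain ⟨ψ, hψ⟩ := exists_lift_closure (bSub M E₀ (G : Set (sectModEt M E₀))) N.obj.obj.hom fun E x => by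
      refine SubSheaf.le_closure (bSub M E₀ (G : Set (sectModEt M E₀))) (op E) ?_
      exact bounded_of_span isCart_of_isFinitePresentation N.obj.obj.hom E₀ _
        (hT ▸ Submodule.span_mono (Finset.coe_subset.2 hsub)) E x
    exact ⟨ObjectProperty.homMk (MonoOver.homMk ψ hψ)⟩
  obtain ⟨f₁⟩ := key N₁ T₁ hT₁ Finset.subset_union_left
  obtain ⟨f₂⟩ := key N₂ T₂ hT₂ Finset.subset_union_right
  exact ⟨Z, f₁, f₂, trivial⟩

include hqs hX hM hs in
theorem isFiltered : IsFiltered (CohSub M).FullSubcategory := by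
  haveI : IsFilteredOrEmpty (CohSub M).FullSubcategory :=
    { cocone_objs := exists_cocone hqs hX hM hs
      cocone_maps := fun X₁ Y₁ f g => ⟨Y₁, 𝟙 _, by
        rw [Category.comp_id, Category.comp_id]
        exact (CohSub M).ι.map_injective (Subsingleton.elim _ _)⟩ }
  obtain ⟨Z, -⟩ := exists_upper hqs hX hM hs (∅ : Finset (sectModEt M E₀))
  exact { nonempty := ⟨Z⟩ }

set_option maxHeartbeats 1000000 in
include hqs hX hM hs in
/-- The inclusions form a colimit. -/
theorem isColimit : Nonempty (IsColimit ((Over.forgetCocone M).whisker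
    (ObjectProperty.ι (CohSub M) ⋙ MonoOver.forget M))) := by
  classical
  haveI := isFiltered hqs hX hM hs
  let ι' : ∀ N : (CohSub M).FullSubcategory, N.obj.obj.left ⟶ M := fun N => N.obj.obj.hom
  have hinj : ∀ N E, Function.Injective (secMap (ι' N) E) := fun N E =>
    haveI : Mono (ι' N) := N.obj.property
    injective_secMap_of_mono _ E
  have hcov : ∀ (W : EtOver X), IsAffine W.obj.left.left → ∀ m : sectModEt M W,
      ∃ N, m ∈ Set.range (secMap (ι' N) W) := fun W hW m => by
    haveI := hW
    obtain ⟨G, hG⟩ := exists_finite_bound hqs hM E₀ (isQcqsObj_of_isAffine W) {m}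
    obtain ⟨Z, hZ⟩ := exists_upper hqs hX hM hs G
    exact ⟨Z, hZ W m (hG m (Finset.mem_singleton_self m))⟩
  refine ⟨IsColimit.ofExistsUnique fun s => ?_⟩
  have heq : ∀ (W : EtOver X) (N N' : (CohSub M).FullSubcategory) (x : sectModEt N.obj.obj.left W)
      (x' : sectModEt N'.obj.obj.left W), secMap (ι' N) W x = secMap (ι' N') W x' →
      secMap (s.ι.app N) W x = secMap (s.ι.app N') W x' := by
    intro W N N' x x' h
    let a := IsFiltered.leftToMax N N'
    let b := IsFiltered.rightToMax N N'
    have ha : a.hom.hom.left ≫ ι' (IsFiltered.max N N') = ι' N := Over.w a.hom.hom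
    have hb : b.hom.hom.left ≫ ι' (IsFiltered.max N N') = ι' N' := Over.w b.hom.hom
    have e : secMap a.hom.hom.left W x = secMap b.hom.hom.left W x' := hinj _ W (by
      rw [← secMap_comp, ← secMap_comp, ha, hb]; exact h)
    rw [← s.w a, ← s.w b]
    exact congrArg (secMap (s.ι.app (IsFiltered.max N N')) W) e
  choose Nn xx hxx using fun (p : {W : EtOver X // IsAffine W.obj.left.left}) (m : sectModEt M p.1) =>
    hcov p.1 p.2 m
  let g : ∀ p : {W : EtOver X // IsAffine W.obj.left.left}, sectModEt M p.1 → sectModEt s.pt p.1 :=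
    fun p m => secMap (s.ι.app (Nn p m)) p.1 (xx p m)
  have hg : ∀ (p : {W : EtOver X // IsAffine W.obj.left.left}) (N) (x : sectModEt N.obj.obj.left p.1),
      g p (secMap (ι' N) p.1 x) = secMap (s.ι.app N) p.1 x := fun p N x =>
    heq p.1 _ _ _ _ (hxx p _)
  have hnat : ∀ (p q : {W : EtOver X // IsAffine W.obj.left.left}) (h : q.1 ⟶ p.1) (m : sectModEt M p.1),
      g q (res M h m) = res s.pt h (g p m) := fun p q h m => by
    conv_lhs => rw [← hxx p m, ← secMap_res]
    rw [hg]
    exact secMap_res _ h _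
  have hadd : ∀ p a b, g p (a + b) = g p a + g p b := fun p a b => by
    let N := IsFiltered.max (Nn p a) (Nn p b)
    let i := IsFiltered.leftToMax (Nn p a) (Nn p b)
    let j := IsFiltered.rightToMax (Nn p a) (Nn p b)
    have hi : secMap (ι' N) p.1 (secMap i.hom.hom.left p.1 (xx p a)) = a := by
      rw [← secMap_comp, show i.hom.hom.left ≫ ι' N = ι' _ from Over.w i.hom.hom]; exact hxx p a
    have hj : secMap (ι' N) p.1 (secMap j.hom.hom.left p.1 (xx p b)) = b := by
      rw [← secMap_comp, show j.hom.hom.left ≫ ι' N = ι' _ from Over.w j.hom.hom]; exact hxx p b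
    have e := hg p N (secMap i.hom.hom.left p.1 (xx p a) + secMap j.hom.hom.left p.1 (xx p b))
    have e1 := hg p N (secMap i.hom.hom.left p.1 (xx p a))
    have e2 := hg p N (secMap j.hom.hom.left p.1 (xx p b))
    rw [map_add, map_add, hi, hj] at e
    rw [hi] at e1
    rw [hj] at e2
    exact e.trans (by rw [e1, e2])
  have hsmul : ∀ (p : {W : EtOver X // IsAffine W.obj.left.left}) (r : fn p.1) a, g p (r • a) = r • g p a :=
    fun p r a => by
    conv_lhs => rw [← hxx p a, ← map_smul]
    rw [hg, map_smul]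
  have hex : ∀ (E : EtOver X) (m : sectModEt M E), ∃ t : sectModEt s.pt E,
      ∀ (W : EtOver X) (hW : IsAffine W.obj.left.left) (h : W ⟶ E), res s.pt h t = g ⟨W, hW⟩ (res M h m) := by
    intro E m
    choose V j hV hj using fun v : E.obj.left.left => exists_affine_open_obj v
    have hc : ∀ x : E.obj.left.left, ∃ v, x ∈ Set.range (j v).hom.left.left := fun x => ⟨x, hj x⟩
    obtain ⟨t, ht⟩ := exists_glue V j hc (fun v => g ⟨V v, hV v⟩ (res M (j v) m)) fun v v' => by
      choose W k hW hk using fun z : (EtOver.pullbackObj (j v) (j v')).obj.left.left => exists_affine_open_obj z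
      refine eq_of_cover W k (fun z => ⟨z, hk z⟩) fun z => ?_
      rw [← res_comp_apply, ← res_comp_apply, ← hnat ⟨V v, hV v⟩ ⟨W z, hW z⟩,
        ← hnat ⟨V v', hV v'⟩ ⟨W z, hW z⟩, ← res_comp_apply, ← res_comp_apply, Category.assoc, Category.assoc,
        EtOver.pullback_condition]
    refine ⟨t, fun W hW h => ?_⟩
    have hk0 : ∀ w : W.obj.left.left, ∃ (W' : EtOver X) (k : W' ⟶ W) (_ : IsAffine W'.obj.left.left)
        (v : E.obj.left.left) (k' : W' ⟶ V v), k ≫ h = k' ≫ j v ∧ w ∈ Set.range k.hom.left.left := by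
      intro w
      obtain ⟨v, hv⟩ := hc (h.hom.left.left w)
      obtain ⟨z, hz⟩ := exists_pullbackFst_preimage h (j v) hv
      obtain ⟨W', k, hW', w', hw'⟩ := exists_affine_open_obj z
      refine ⟨W', k ≫ EtOver.pullbackFst h (j v), hW', v, k ≫ EtOver.pullbackSnd h (j v),
        by rw [Category.assoc, Category.assoc, EtOver.pullback_condition], w', ?_⟩
      change (EtOver.pullbackFst h (j v)).hom.left.left (k.hom.left.left w') = w
      rw [hw', hz]
    choose W' k hW' v k' hkk hw using hk0
    refine eq_of_cover W' k (fun w => ⟨w, hw w⟩) fun w => ?_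
    rw [← hnat ⟨W, hW⟩ ⟨W' w, hW' w⟩, ← res_comp_apply, ← res_comp_apply, hkk, res_comp_apply, ht,
      ← hnat ⟨V (v w), hV _⟩ ⟨W' w, hW' w⟩, ← res_comp_apply]
  choose φf hφf using hex
  have huniq : ∀ (E : EtOver X) (t t' : sectModEt s.pt E),
      (∀ (W : EtOver X), IsAffine W.obj.left.left → ∀ h : W ⟶ E, res s.pt h t = res s.pt h t') → t = t' :=
    fun E t t' h => by
    choose V j hV hj using fun v : E.obj.left.left => exists_affine_open_obj v
    exact eq_of_cover V j (fun x => ⟨x, hj x⟩) fun v => h _ (hV v) _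
  let φ : M ⟶ s.pt := ⟨PresheafOfModules.homMk
    { app := fun Y => AddCommGrpCat.ofHom (AddMonoidHom.mk' (φf Y.unop) fun a b =>
        huniq Y.unop _ _ fun W hW h => by
          rw [map_add, hφf _ _ W hW, hφf _ _ W hW, hφf _ _ W hW, map_add, hadd])
      naturality := fun Y Y' h => by
        ext m
        refine huniq Y'.unop (φf Y'.unop (res M h.unop m)) (res s.pt h.unop (φf Y.unop m)) fun W hW k => ?_
        rw [hφf _ _ W hW, ← res_comp_apply, ← res_comp_apply, hφf _ _ W hW] }
    (fun Y r m => huniq Y.unop (φf Y.unop (HSMul.hSMul (α := fn Y.unop) r.down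
        (show sectModEt M Y.unop from m))) (HSMul.hSMul (α := fn Y.unop) r.down (φf Y.unop m)) fun W hW h => by
      rw [hφf _ _ W hW, res_smul, hsmul, res_smul, hφf _ _ W hW])⟩
  refine ⟨φ, fun N => ?_, fun (ψ : M ⟶ s.pt) hψ => ?_⟩
  · refine SheafOfModules.hom_ext (PresheafOfModules.hom_ext fun Y => ModuleCat.hom_ext (LinearMap.ext fun x => ?_))
    obtain ⟨E⟩ := Y
    refine huniq E (φf E (secMap (ι' N) E x)) (secMap (s.ι.app N) E x) fun W hW h => ?_
    rw [hφf _ _ W hW, ← secMap_res, hg ⟨W, hW⟩]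
    exact secMap_res (s.ι.app N) h x
  · refine SheafOfModules.hom_ext (PresheafOfModules.hom_ext fun Y => ModuleCat.hom_ext (LinearMap.ext fun m => ?_))
    obtain ⟨E⟩ := Y
    refine huniq E (secMap ψ E (show sectModEt M E from m)) (φf E m) fun W hW h => ?_
    rw [hφf _ _ W hW, ← secMap_res]
    refine (congrArg (secMap ψ W) (hxx ⟨W, hW⟩ (res M h m)).symm).trans ?_
    exact congrArg (fun z : (Nn ⟨W, hW⟩ (res M h m)).obj.obj.left ⟶ s.pt =>
      secMap z W (xx ⟨W, hW⟩ (res M h m))) (hψ (Nn ⟨W, hW⟩ (res M h m)))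

end Colimit

end Groth.Agent.H8.CohUnion
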