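import Groth.Agent.H8.SectColim
import Groth.Agent.Lib.EtMod.Ext
import Groth.Agent.Lib.EtMod.FPSec
import Groth.Agent.Lib.EtMod.Exact

/-!
# Finitely presented modules: cokernels, sums, and colimits detected on affine sections
-/

set_option autoImplicit false
set_option backward.isDefEq.respectTransparency false
set_option backward.isDefEq.respectTransparency.types false
set_option linter.style.haveILetI false

universe u

open CategoryTheory CategoryTheory.Limits AlgebraicGeometry Opposite AlgSp
open Groth.Agent.Lib.EtMod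

namespace Groth.Agent.H8.FPOps

variable {S : Scheme.{u}} {X : Sp S} {F G : ModEt X}

/-- Exactness on affine sections. -/
theorem mem_range_of_exact {H : ModEt X} (a : F ⟶ G) (b : G ⟶ H) (w : a ≫ b = 0)
    (hEx : (ShortComplex.mk a b w).Exact) (hF : IsCart F) (hK : IsCart (kernel b)) (E : EtOver X)
    [IsAffine E.obj.left.left] (x : sectModEt G E) (hx : secMap b E x = 0) :
    x ∈ LinearMap.range (secMap a E) := by
  obtain ⟨y, hy⟩ := SubSheaf.exists_kernel_lift b x hx
  haveI : Epi (kernel.lift b a w) := (ShortComplex.mk a b w).exact_iff_epi_kernel_lift.1 hEx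
  obtain ⟨p, hp⟩ := surjective_secMap (kernel.lift b a w) hF hK E y
  refine ⟨p, ?_⟩
  have h : secMap (kernel.ι b) E (secMap (kernel.lift b a w) E p) = secMap a E p :=
    congrArg (fun ψ : F ⟶ G => secMap ψ E p) (kernel.lift_ι b a w)
  rw [← h, hp]
  exact hy

/-- Exactness of a cokernel sequence on affine sections. -/
theorem mem_range_of_secMap_cokernel (φ : F ⟶ G) (hF : IsCart F) (hG : IsCart G) (E : EtOver X)
    [IsAffine E.obj.left.left] (x : sectModEt G E) (hx : secMap (cokernel.π φ) E x = 0) :
    x ∈ LinearMap.range (secMap φ E) :=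
  mem_range_of_exact φ (cokernel.π φ) (cokernel.condition φ) (ShortComplex.cokernelSequence_exact φ) hF
    (isCart_kernel (cokernel.π φ) hG (isCart_cokernel φ hF hG)) E x hx

/-- The cokernel of a map of finitely presented modules is finitely presented. -/
theorem isFP_cokernel (φ : F ⟶ G) [F.IsFinitePresentation] [G.IsFinitePresentation] :
    (cokernel φ).IsFinitePresentation := by
  have hF : IsCart F := isCart_of_isFinitePresentation
  have hG : IsCart G := isCart_of_isFinitePresentation
  haveI : ∀ E : {E : EtOver X // IsAffine E.obj.left.left}, IsAffine E.1.obj.left.left := fun E => E.2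
  refine isFinitePresentation_of_fp (isCart_cokernel φ hF hG)
    (I := {E : EtOver X // IsAffine E.obj.left.left}) (fun E => E.1) (coversTop_affine X) fun E => ?_
  haveI := E.2
  haveI := finite_of_isFinitePresentation (M := F) E.1
  haveI := finitePresentation_sect (M := G) E.1
  refine Module.finitePresentation_of_surjective (secMap (cokernel.π φ) E.1)
    (surjective_secMap (cokernel.π φ) hG (isCart_cokernel φ hF hG) E.1) ?_
  rw [show LinearMap.ker (secMap (cokernel.π φ) E.1) = LinearMap.range (secMap φ E.1) from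
    le_antisymm (fun x hx => mem_range_of_secMap_cokernel φ hF hG E.1 x hx) (by
      rintro _ ⟨y, rfl⟩
      exact congrArg (fun ψ : F ⟶ cokernel φ => secMap ψ E.1 y) (cokernel.condition φ))]
  exact Module.Finite.iff_fg.1 (Module.Finite.range _)

theorem secMap_add (a b : F ⟶ G) (E : EtOver X) (x : sectModEt F E) :
    secMap (a + b) E x = secMap a E x + secMap b E x := rfl

theorem secMap_sub (a b : F ⟶ G) (E : EtOver X) (x : sectModEt F E) :
    secMap (a - b) E x = secMap a E x - secMap b E x := rfl

/-- The sum of two finitely presented modules is finitely presented. -/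
theorem isFP_biprod [F.IsFinitePresentation] [G.IsFinitePresentation] :
    (F ⊞ G).IsFinitePresentation := by
  have hF : IsCart F := isCart_of_isFinitePresentation
  have hG : IsCart G := isCart_of_isFinitePresentation
  have h1 : ∀ (E : EtOver X) (y : sectModEt F E),
      secMap (biprod.fst : F ⊞ G ⟶ F) E (secMap biprod.inl E y) = y := fun E y =>
    congrArg (fun ψ : F ⟶ F => secMap ψ E y) biprod.inl_fst
  have h2 : ∀ (E : EtOver X) (y : sectModEt F E),
      secMap (biprod.snd : F ⊞ G ⟶ G) E (secMap biprod.inl E y) = 0 := fun E y =>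
    congrArg (fun ψ : F ⟶ G => secMap ψ E y) biprod.inl_snd
  have h3 : ∀ (E : EtOver X) (y : sectModEt G E),
      secMap (biprod.snd : F ⊞ G ⟶ G) E (secMap biprod.inr E y) = y := fun E y =>
    congrArg (fun ψ : G ⟶ G => secMap ψ E y) biprod.inr_snd
  have h4 : ∀ (E : EtOver X) (y : sectModEt G E),
      secMap (biprod.fst : F ⊞ G ⟶ F) E (secMap biprod.inr E y) = 0 := fun E y =>
    congrArg (fun ψ : G ⟶ F => secMap ψ E y) biprod.inr_fst
  have h5 : ∀ (E : EtOver X) (y : sectModEt (F ⊞ G) E),
      secMap biprod.inl E (secMap (biprod.fst : F ⊞ G ⟶ F) E y) +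
        secMap biprod.inr E (secMap (biprod.snd : F ⊞ G ⟶ G) E y) = y := fun E y =>
    congrArg (fun ψ : F ⊞ G ⟶ F ⊞ G => secMap ψ E y) biprod.total
  have hC : IsCart (F ⊞ G) := isCart_of_extension (biprod.inl : F ⟶ F ⊞ G) biprod.snd
    (fun E => Function.LeftInverse.injective (h1 E))
    (fun E x => ⟨fun hx => ⟨secMap (biprod.fst : F ⊞ G ⟶ F) E x, by
        conv_rhs => rw [← h5 E x, hx, map_zero, add_zero]⟩,
      by rintro ⟨y, rfl⟩; exact h2 E y⟩)
    hF hG fun V m => ⟨⊤, (etTop X).top_mem V, fun W k _ => ⟨_, h3 W (res G k m)⟩⟩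
  haveI : ∀ E : {E : EtOver X // IsAffine E.obj.left.left}, IsAffine E.1.obj.left.left := fun E => E.2
  refine isFinitePresentation_of_fp hC
    (I := {E : EtOver X // IsAffine E.obj.left.left}) (fun E => E.1) (coversTop_affine X) fun E => ?_
  haveI := E.2
  haveI := finitePresentation_sect (M := F) E.1
  haveI := finitePresentation_sect (M := G) E.1
  let e : (sectModEt F E.1 × sectModEt G E.1) ≃ₗ[fn E.1] sectModEt (F ⊞ G) E.1 :=
    LinearEquiv.ofBijective ((secMap biprod.inl E.1).coprod (secMap biprod.inr E.1))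
      ⟨fun a b hab => by
        have ha := congrArg (secMap (biprod.fst : F ⊞ G ⟶ F) E.1) hab
        have hb := congrArg (secMap (biprod.snd : F ⊞ G ⟶ G) E.1) hab
        simp only [LinearMap.coprod_apply, map_add, h1, h2, h3, h4, zero_add, add_zero] at ha hb
        exact Prod.ext ha hb, fun y => ⟨(_, _), h5 E.1 y⟩⟩
  exact Module.FinitePresentation.of_equiv e

/-- A cocone detected as a colimit on affine sections. -/
theorem isColimit_of_sections [QuasiSeparatedSpace ↥S] {Λ : Type (u + 1)} [SmallCategory Λ]
    [IsFiltered Λ] {D : Λ ⥤ ModEt X} (c : Cocone D)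
    (hsurj : ∀ (W : EtOver X), IsAffine W.obj.left.left → ∀ m : sectModEt c.pt W,
      ∃ (j : Λ) (t : sectModEt (D.obj j) W), secMap (c.ι.app j) W t = m)
    (hinj : ∀ (W : EtOver X), IsAffine W.obj.left.left → ∀ (j : Λ) (t : sectModEt (D.obj j) W),
      secMap (c.ι.app j) W t = 0 → ∃ (k : Λ) (a : j ⟶ k), secMap (D.map a) W t = 0) :
    Nonempty (IsColimit c) := by
  let d : colimit D ⟶ c.pt := colimit.desc D c
  have hd : ∀ j (W : EtOver X) (t : sectModEt (D.obj j) W),
      secMap d W (secMap (colimit.ι D j) W t) = secMap (c.ι.app j) W t := fun j W t =>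
    congrArg (fun ψ : D.obj j ⟶ c.pt => secMap ψ W t) (colimit.ι_desc c j)
  have hext : ∀ {A B : ModEt X} (g : A ⟶ B),
      (∀ (W : EtOver X), IsAffine W.obj.left.left → ∀ m, secMap g W m = 0) → g = 0 := fun g hg =>
    SheafOfModules.hom_ext (PresheafOfModules.hom_ext fun Y => ModuleCat.hom_ext (LinearMap.ext fun m => by
      obtain ⟨E⟩ := Y
      change secMap g E m = 0
      choose V k hV hk using fun v : E.obj.left.left => exists_affine_open_obj v
      refine eq_of_cover V k (fun x => ⟨x, hk x⟩) fun v => ?_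
      rw [map_zero, ← secMap_res]
      exact hg _ (hV v) _))
  haveI : Mono d := Preadditive.mono_of_cancel_zero d fun {A} g hg => hext g fun W hW m => by
    haveI := hW
    obtain ⟨j, t, ht⟩ := SectColim.exists_rep (colimit.isColimit D) (QcqsSite.isQcqsObj_of_isAffine W)
      (secMap g W m)
    have h0 : secMap d W (secMap g W m) = 0 := congrArg (fun ψ : A ⟶ c.pt => secMap ψ W m) hg
    rw [← ht] at h0 ⊢
    obtain ⟨k, a, ha⟩ := hinj W hW j t ((hd j W t).symm.trans h0)
    refine (congrArg (fun ψ : D.obj j ⟶ colimit D => secMap ψ W t) (colimit.w D a)).symm.trans ?_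
    exact (congrArg (secMap (colimit.ι D k) W) ha).trans (map_zero _)
  haveI : Epi d := Preadditive.epi_of_cancel_zero d fun {B} g hg => hext g fun W hW m => by
    obtain ⟨j, t, ht⟩ := hsurj W hW m
    rw [← ht, ← hd j W t]
    exact congrArg (fun ψ : colimit D ⟶ B => secMap ψ W (secMap (colimit.ι D j) W t)) hg
  haveI : IsIso d := isIso_of_mono_of_epi d
  haveI : IsIso ((colimit.isColimit D).desc c) := ‹IsIso d›
  exact ⟨IsColimit.ofPointIso (colimit.isColimit D)⟩

end Groth.Agent.H8.FPOps
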