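import Groth.Agent.H8.SlicePull
import Groth.Agent.H8.CohUnion
import Groth.Agent.H8.FPOps

/-!
# Quasi-coherent modules on spaces affine over a Noetherian space are filtered colimits of finitely presented ones
-/

set_option autoImplicit false
set_option backward.isDefEq.respectTransparency false
set_option backward.isDefEq.respectTransparency.types false
set_option linter.style.haveILetI false

universe u

open CategoryTheory CategoryTheory.Limits AlgebraicGeometry Opposite AlgSp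
open Groth.Agent.Lib.EtMod Groth.Agent.H8.BoundSub Groth.Agent.H8.CohUnion

namespace Groth.Agent.H8.AffFPColim

variable {S : Scheme.{u}} {X Y : Sp S} {f : X ⟶ Y} (hf : Representable f)
  [(SheafOfModules.pushforward.{u + 1} (bcRingHom hf)).IsRightAdjoint] (E₀ : EtOver Y)

/-- The inverse image of the bounded submodule of a direct image. -/
noncomputable def leaf (K : ModEt X) (G : Finset (sectModEt (pushM hf K) E₀)) : ModEt X :=
  (pullModEt hf).obj (bSheaf (pushM hf K) E₀ (G : Set (sectModEt (pushM hf K) E₀)))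

/-- The adjoint of the inclusion. -/
noncomputable def leafMap (K : ModEt X) (G : Finset (sectModEt (pushM hf K) E₀)) : leaf hf E₀ K G ⟶ K :=
  ((pullPushAdjModEt hf).homEquiv _ _).symm (bι (pushM hf K) E₀ (G : Set (sectModEt (pushM hf K) E₀)))

variable [QuasiSeparatedSpace ↥S] [IsAffine E₀.obj.left.left] (hqs : IsQuasiSeparatedSp Y)
  (hN : IsLocNoethSp Y) (hY : IsAlgSpace Y) (haff : IsAffineMor f)
  (hs : RepWith @Surjective E₀.obj.hom)

include hqs hN hY haff hs in
theorem isFP_leaf {K : ModEt X} (hK : IsCart K) (G : Finset (sectModEt (pushM hf K) E₀)) :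
    (leaf hf E₀ K G).IsFinitePresentation := by
  haveI := isFP_bSheaf hqs hN (isCart_push hf haff hK) hs G
  exact SlicePull.isFinitePresentation_pull hf hY _

include hqs haff in
theorem exists_leaf_mem {K : ModEt X} (hK : IsCart K) (x : sectModEt K (bcE hf E₀)) :
    ∃ G, x ∈ LinearMap.range (secMap (leafMap hf E₀ K G) (bcE hf E₀)) := by
  have hM := isCart_push hf haff hK
  obtain ⟨G, hG⟩ := exists_finite_bound hqs hM E₀ (QcqsSite.isQcqsObj_of_isAffine E₀)
    ({x} : Finset (sectModEt (pushM hf K) E₀))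
  obtain ⟨n, hn⟩ := (mem_range_bι (G := (G : Set (sectModEt (pushM hf K) E₀))) hM
    (show sectModEt (pushM hf K) E₀ from x)).2 (hG x (Finset.mem_singleton_self _))
  refine ⟨G, secMap ((pullPushAdjModEt hf).unit.app
    (bSheaf (pushM hf K) E₀ (G : Set (sectModEt (pushM hf K) E₀)))) E₀ n, ?_⟩
  have h : (pullPushAdjModEt hf).unit.app (bSheaf (pushM hf K) E₀ (G : Set (sectModEt (pushM hf K) E₀))) ≫
      (pushModEt hf).map (leafMap hf E₀ K G) = bι (pushM hf K) E₀ (G : Set (sectModEt (pushM hf K) E₀)) :=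
    ((pullPushAdjModEt hf).homEquiv_unit _ _ _).symm.trans (Equiv.apply_symm_apply _ _)
  refine Eq.trans ?_ hn
  exact congrArg (fun ψ : bSheaf (pushM hf K) E₀ (G : Set (sectModEt (pushM hf K) E₀)) ⟶ pushM hf K =>
    secMap ψ E₀ n) h

variable (M : ModEt X)

/-- A family of modules. -/
structure Fam (X : Sp S) where
  /-- The index type. -/
  ι : Type (u + 1)
  /-- The modules. -/
  obj : ι → ModEt X

/-- One step of the closure. -/
noncomputable def next (Φ : Fam X) : Fam X where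
  ι := Φ.ι ⊕ (Φ.ι × Φ.ι) ⊕ (Σ (a : Φ.ι) (b : Φ.ι), Φ.obj a ⟶ Φ.obj b) ⊕
    (Σ (a : Φ.ι) (φ : Φ.obj a ⟶ M), Finset (sectModEt (pushM hf (kernel φ)) E₀))
  obj := Sum.elim Φ.obj (Sum.elim (fun p => Φ.obj p.1 ⊞ Φ.obj p.2)
    (Sum.elim (fun q => cokernel q.2.2) (fun r => leaf hf E₀ (kernel r.2.1) r.2.2)))

/-- The levels of the closure. -/
noncomputable def lev : ℕ → Fam X
  | 0 => ⟨Finset (sectModEt (pushM hf M) E₀), leaf hf E₀ M⟩
  | n + 1 => next hf E₀ M (lev n)

/-- The index type of the closure. -/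
abbrev Idx : Type (u + 1) := Σ n, (lev hf E₀ M n).ι

/-- The modules of the closure. -/
noncomputable abbrev idxObj (a : Idx hf E₀ M) : ModEt X := (lev hf E₀ M a.1).obj a.2

theorem exists_level {n m : ℕ} (h : n ≤ m) (a : (lev hf E₀ M n).ι) :
    ∃ b : (lev hf E₀ M m).ι, (lev hf E₀ M m).obj b = (lev hf E₀ M n).obj a := by
  induction m, h using Nat.le_induction with
  | base => exact ⟨a, rfl⟩
  | succ m _ ih =>
    obtain ⟨b, hb⟩ := ih
    exact ⟨Sum.inl b, hb⟩

theorem exists_biprod (a b : Idx hf E₀ M) :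
    ∃ c, Nonempty (idxObj hf E₀ M c ≅ idxObj hf E₀ M a ⊞ idxObj hf E₀ M b) := by
  obtain ⟨a', ha⟩ := exists_level hf E₀ M (le_max_left a.1 b.1) a.2
  obtain ⟨b', hb⟩ := exists_level hf E₀ M (le_max_right a.1 b.1) b.2
  exact ⟨⟨max a.1 b.1 + 1, Sum.inr (Sum.inl (a', b'))⟩, ⟨biprod.mapIso (eqToIso ha) (eqToIso hb)⟩⟩

theorem exists_cokernel (a b : Idx hf E₀ M) (g : idxObj hf E₀ M a ⟶ idxObj hf E₀ M b) :
    ∃ c, Nonempty (idxObj hf E₀ M c ≅ cokernel g) := by
  obtain ⟨a', ha⟩ := exists_level hf E₀ M (le_max_left a.1 b.1) a.2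
  obtain ⟨b', hb⟩ := exists_level hf E₀ M (le_max_right a.1 b.1) b.2
  refine ⟨⟨max a.1 b.1 + 1, Sum.inr (Sum.inr (Sum.inl ⟨a', b', eqToHom ha ≫ g ≫ eqToHom hb.symm⟩))⟩, ⟨?_⟩⟩
  exact cokernel.mapIso (eqToHom ha ≫ g ≫ eqToHom hb.symm) g (eqToIso ha) (eqToIso hb) (by simp)

theorem exists_kernel_leaf (a : Idx hf E₀ M) (φ : idxObj hf E₀ M a ⟶ M)
    (G : Finset (sectModEt (pushM hf (kernel φ)) E₀)) :
    ∃ c, Nonempty (idxObj hf E₀ M c ≅ leaf hf E₀ (kernel φ) G) :=
  ⟨⟨a.1 + 1, Sum.inr (Sum.inr (Sum.inr ⟨a.2, φ, G⟩))⟩, ⟨Iso.refl _⟩⟩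

variable [M.IsQuasicoherent]

include hqs hN hY haff hs in
theorem isFP_lev : ∀ (n : ℕ) (a : (lev hf E₀ M n).ι), ((lev hf E₀ M n).obj a).IsFinitePresentation
  | 0, G => isFP_leaf hf E₀ hqs hN hY haff hs (isCart_of_isQuasicoherent M) G
  | n + 1, Sum.inl a => isFP_lev n a
  | n + 1, Sum.inr (Sum.inl p) =>
    haveI := isFP_lev n p.1
    haveI := isFP_lev n p.2
    FPOps.isFP_biprod
  | n + 1, Sum.inr (Sum.inr (Sum.inl q)) =>
    haveI := isFP_lev n q.1
    haveI := isFP_lev n q.2.1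
    FPOps.isFP_cokernel q.2.2
  | n + 1, Sum.inr (Sum.inr (Sum.inr r)) =>
    haveI := isFP_lev n r.1
    isFP_leaf hf E₀ hqs hN hY haff hs
      (isCart_kernel r.2.1 isCart_of_isFinitePresentation (isCart_of_isQuasicoherent M)) r.2.2

include hqs hN hY haff hs in
/-- Sections of a module covered by the closure. -/
theorem exists_mem {K : ModEt X} (hK : IsCart K)
    (hleaf : ∀ G, ∃ c, Nonempty (idxObj hf E₀ M c ≅ leaf hf E₀ K G))
    (W : EtOver X) (hW : IsAffine W.obj.left.left) (m : sectModEt K W) :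
    ∃ (c : Idx hf E₀ M) (ψ : idxObj hf E₀ M c ⟶ K), m ∈ LinearMap.range (secMap ψ W) := by
  classical
  haveI := hW
  haveI := isAffine_bcE hf haff E₀
  have hsurj : RepWith @Surjective (bcE hf E₀).obj.hom :=
    Groth.Agent.Lib.AlgSpace.repWith_baseChange (EtOver.isPullback_bcObj hf E₀).flip hs
  have key : ∀ T : Finset (sectModEt K (bcE hf E₀)), ∃ (c : Idx hf E₀ M) (ψ : idxObj hf E₀ M c ⟶ K),
      ∀ x ∈ T, x ∈ LinearMap.range (secMap ψ (bcE hf E₀)) := fun T => by
    induction T using Finset.induction with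
    | empty =>
      obtain ⟨c, -⟩ := hleaf ∅
      exact ⟨c, 0, fun x hx => absurd hx (Finset.notMem_empty x)⟩
    | insert x T _ ih =>
      obtain ⟨a, α, ha⟩ := ih
      obtain ⟨G, hG⟩ := exists_leaf_mem hf E₀ hqs haff hK x
      obtain ⟨b, ⟨e⟩⟩ := hleaf G
      obtain ⟨c, ⟨e'⟩⟩ := exists_biprod hf E₀ M a b
      refine ⟨c, e'.hom ≫ biprod.desc α (e.hom ≫ leafMap hf E₀ K G), fun z hz => ?_⟩
      have step : ∀ {A : ModEt X} (i : A ⟶ idxObj hf E₀ M c) (β : A ⟶ K),
          i ≫ e'.hom ≫ biprod.desc α (e.hom ≫ leafMap hf E₀ K G) = β →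
          z ∈ LinearMap.range (secMap β (bcE hf E₀)) →
          z ∈ LinearMap.range (secMap (e'.hom ≫ biprod.desc α (e.hom ≫ leafMap hf E₀ K G)) (bcE hf E₀)) := by
        rintro A i β rfl ⟨y, hy⟩
        exact ⟨secMap i _ y, hy⟩
      rcases Finset.mem_insert.1 hz with rfl | hz
      · refine step (e.inv ≫ biprod.inr ≫ e'.inv) _ ?_ hG
        simp
      · refine step (biprod.inl ≫ e'.inv) _ ?_ (ha z hz)
        simp
  have hR : Sieve.ofArrows
      (fun p : {p : Σ V : EtOver X, (V ⟶ W) × (V ⟶ bcE hf E₀) // IsAffine p.1.obj.left.left} => p.1.1)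
      (fun p => p.1.2.1) ∈ etTop X W := ofArrows_mem_etTop _ _ fun x => by
    have hfst : Surjective (EtOver.prodFst W (bcE hf E₀)).hom.left.left :=
      (AlgSp.repWith_yon_map_iff _ _).1 (Groth.Agent.Lib.AlgSpace.repWith_baseChange
        ((bcE hf E₀).property.1.isPullback W.obj.hom) hsurj)
    obtain ⟨z, hz⟩ := hfst.surj x
    obtain ⟨V, j, hV, w, hw⟩ := exists_affine_open_obj z
    refine ⟨⟨⟨V, j ≫ EtOver.prodFst W (bcE hf E₀), j ≫ EtOver.prodSnd W (bcE hf E₀)⟩, hV⟩, w, ?_⟩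
    change (EtOver.prodFst W (bcE hf E₀)).hom.left.left (j.hom.left.left w) = x
    rw [hw]
    exact hz
  obtain ⟨C, hC⟩ := exists_affCover hR
  have hT : ∀ k, ∃ (b : C.V k ⟶ bcE hf E₀) (T : Finset (sectModEt K (bcE hf E₀))),
      res K (C.g k) m ∈ Submodule.span (fn (C.V k)) (res K b '' (T : Set (sectModEt K (bcE hf E₀)))) :=
    fun k => by
    obtain ⟨_, c, _, ⟨p⟩, -⟩ := hC k
    obtain ⟨T', hT', hm⟩ := Submodule.mem_span_finite_of_mem_span
      (show res K (C.g k) m ∈ Submodule.span (fn (C.V k)) (Set.range (res K (c ≫ p.1.2.2))) by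
        rw [span_res_eq_top hK]; trivial)
    choose y hy using fun x : T' => hT' x.2
    refine ⟨c ≫ p.1.2.2, Finset.univ.image y, Submodule.span_mono (fun x hx => ?_) hm⟩
    exact ⟨y ⟨x, hx⟩, by simp, hy ⟨x, hx⟩⟩
  choose b T hT using hT
  obtain ⟨c, ψ, hψ⟩ := key (Finset.univ.biUnion T)
  haveI := isFP_lev hf E₀ hqs hN hY haff hs M c.1 c.2
  have hc : IsCart (idxObj hf E₀ M c) := isCart_of_isFinitePresentation
  refine ⟨c, ψ, ?_⟩
  have hle : Submodule.span (fn W) (Set.range (secMap ψ W)) ≤ LinearMap.range (secMap ψ W) :=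
    Submodule.span_le.2 fun x hx => hx
  refine hle (mem_span_of_local hK C fun k => ?_)
  refine (Submodule.span_le.2 ?_) (hT k)
  rintro _ ⟨x, hx, rfl⟩
  obtain ⟨y, rfl⟩ := hψ x (Finset.mem_biUnion.2 ⟨k, Finset.mem_univ _, hx⟩)
  rw [← secMap_res]
  have hy : res _ (b k) y ∈ Submodule.span (fn (C.V k)) (Set.range (res (idxObj hf E₀ M c) (C.g k))) := by
    rw [span_res_eq_top hc]; trivial
  generalize res _ (b k) y = z at hy
  induction hy using Submodule.span_induction with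
  | mem z hz =>
    obtain ⟨z₀, rfl⟩ := hz
    exact Submodule.subset_span ⟨secMap ψ W z₀, ⟨z₀, rfl⟩, (secMap_res ψ (C.g k) z₀).symm⟩
  | zero => rw [map_zero]; exact Submodule.zero_mem _
  | add z z' _ _ hz hz' => rw [map_add]; exact Submodule.add_mem _ hz hz'
  | smul r z _ hz => rw [map_smul]; exact Submodule.smul_mem _ r hz

/-- The indexing category. -/
abbrev Ind : Type (u + 1) := CostructuredArrow (inducedFunctor (idxObj hf E₀ M)) M

/-- An object of the indexing category. -/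
noncomputable abbrev mkInd (c : InducedCategory (ModEt X) (idxObj hf E₀ M)) (φ : idxObj hf E₀ M c ⟶ M) : Ind hf E₀ M :=
  CostructuredArrow.mk (S := inducedFunctor (idxObj hf E₀ M)) φ

/-- A morphism of the indexing category. -/
noncomputable abbrev mkHom {A B : Ind hf E₀ M} (g : idxObj hf E₀ M A.left ⟶ idxObj hf E₀ M B.left)
    (w : g ≫ B.hom = A.hom) : A ⟶ B :=
  CostructuredArrow.homMk (InducedCategory.homMk g) w

omit [M.IsQuasicoherent] in
theorem isFiltered : IsFiltered (Ind hf E₀ M) := by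
  haveI : IsFilteredOrEmpty (Ind hf E₀ M) :=
    { cocone_objs := fun A B => by
        obtain ⟨c, ⟨e⟩⟩ := exists_biprod hf E₀ M A.left B.left
        refine ⟨mkInd hf E₀ M c (e.hom ≫ biprod.desc A.hom B.hom),
          mkHom hf E₀ M (biprod.inl ≫ e.inv) ?_,
          mkHom hf E₀ M (biprod.inr ≫ e.inv) ?_, trivial⟩
        · change (biprod.inl ≫ e.inv) ≫ e.hom ≫ biprod.desc A.hom B.hom = A.hom
          simp
        · change (biprod.inr ≫ e.inv) ≫ e.hom ≫ biprod.desc A.hom B.hom = B.hom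
          simp
      cocone_maps := fun A B g h => by
        let g' : idxObj hf E₀ M A.left ⟶ idxObj hf E₀ M B.left := g.left.hom
        let h' : idxObj hf E₀ M A.left ⟶ idxObj hf E₀ M B.left := h.left.hom
        obtain ⟨c, ⟨e⟩⟩ := exists_cokernel hf E₀ M A.left B.left (g' - h')
        have hw : (g' - h') ≫ (B.hom : idxObj hf E₀ M B.left ⟶ M) = 0 := by
          rw [Preadditive.sub_comp, sub_eq_zero]
          exact (CostructuredArrow.w g).trans (CostructuredArrow.w h).symm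
        refine ⟨mkInd hf E₀ M c (e.hom ≫ cokernel.desc (g' - h') B.hom hw),
          mkHom hf E₀ M (cokernel.π (g' - h') ≫ e.inv) ?_, ?_⟩
        · change (cokernel.π (g' - h') ≫ e.inv) ≫ e.hom ≫ cokernel.desc (g' - h') B.hom hw = B.hom
          simp
        · refine CostructuredArrow.hom_ext _ _ (InducedCategory.hom_ext ?_)
          change g' ≫ cokernel.π (g' - h') ≫ e.inv = h' ≫ cokernel.π (g' - h') ≫ e.inv
          rw [← sub_eq_zero, ← Preadditive.sub_comp, cokernel.condition_assoc, zero_comp] }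
  exact { nonempty := ⟨mkInd hf E₀ M ⟨0, (∅ : Finset (sectModEt (pushM hf M) E₀))⟩ 0⟩ }

/-- The diagram. -/
noncomputable abbrev diag : Ind hf E₀ M ⥤ ModEt X :=
  CostructuredArrow.proj _ M ⋙ inducedFunctor (idxObj hf E₀ M)

/-- The cocone. -/
noncomputable def cocone : diag hf E₀ M ⟶ (Functor.const _).obj M where
  app A := A.hom
  naturality A B g := (CostructuredArrow.w g).trans (Category.comp_id _).symm

include hqs hN hY haff hs in
theorem isColimit : Nonempty (IsColimit (Cocone.mk M (cocone hf E₀ M))) := by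
  haveI := isFiltered hf E₀ M
  have hM := isCart_of_isQuasicoherent M
  refine FPOps.isColimit_of_sections _ (fun W hW m => ?_) (fun W hW A t ht => ?_)
  · obtain ⟨c, ψ, y, hy⟩ := exists_mem hf E₀ hqs hN hY haff hs M hM
      (fun G => ⟨⟨0, G⟩, ⟨Iso.refl _⟩⟩) W hW m
    exact ⟨mkInd hf E₀ M c ψ, y, hy⟩
  · haveI := hW
    haveI := isFP_lev hf E₀ hqs hN hY haff hs M A.left.1 A.left.2
    let φ : idxObj hf E₀ M A.left ⟶ M := A.hom
    obtain ⟨y, hy⟩ := SubSheaf.exists_kernel_lift φ t ht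
    obtain ⟨b, ψ, s, hs'⟩ := exists_mem hf E₀ hqs hN hY haff hs M
      (isCart_kernel φ isCart_of_isFinitePresentation hM) (exists_kernel_leaf hf E₀ M A.left φ) W hW y
    obtain ⟨c, ⟨e⟩⟩ := exists_cokernel hf E₀ M b A.left (ψ ≫ kernel.ι φ)
    have hw : (ψ ≫ kernel.ι φ) ≫ φ = 0 := by simp
    refine ⟨mkInd hf E₀ M c (e.hom ≫ cokernel.desc (ψ ≫ kernel.ι φ) φ hw),
      mkHom hf E₀ M (cokernel.π (ψ ≫ kernel.ι φ) ≫ e.inv) ?_, ?_⟩
    · change (cokernel.π (ψ ≫ kernel.ι φ) ≫ e.inv) ≫ e.hom ≫ cokernel.desc (ψ ≫ kernel.ι φ) φ hw = φ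
      simp
    · change secMap (cokernel.π (ψ ≫ kernel.ι φ) ≫ e.inv) W t = 0
      have hz : (ψ ≫ kernel.ι φ) ≫ cokernel.π (ψ ≫ kernel.ι φ) ≫ e.inv = 0 := by simp
      have ht' : secMap (ψ ≫ kernel.ι φ) W s = t := by
        rw [secMap_comp, hs']; exact hy
      rw [← ht']
      exact congrArg (fun χ : idxObj hf E₀ M b ⟶ idxObj hf E₀ M c => secMap χ W s) hz

end Groth.Agent.H8.AffFPColim
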