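import Groth.Agent.H8.SectColim
import Groth.Agent.Lib.EtMod.Present
import Groth.Agent.Lib.EtMod.Coherent
import Groth.Agent.Lib.EtMod.WeakAss

/-!
# Homomorphisms out of finitely presented modules commute with filtered colimits on qcqs spaces
-/

set_option autoImplicit false
set_option backward.isDefEq.respectTransparency false
set_option backward.isDefEq.respectTransparency.types false
set_option linter.style.haveILetI false

universe u

open CategoryTheory CategoryTheory.Limits AlgebraicGeometry Opposite AlgSp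
open Groth.Agent.Lib.EtMod Groth.Agent.H8.QcqsSite

namespace Groth.Agent.H8.FPHomColim

variable {S : Scheme.{u}} {X : Sp S}

/-- A family of objects meets every object everywhere. -/
def Covers {K : Type*} (V : K → EtOver X) : Prop :=
  ∀ (W : EtOver X) (w : W.obj.left.left), ∃ (k : K) (W' : EtOver X) (b : W' ⟶ W) (_ : W' ⟶ V k),
    w ∈ Set.range b.hom.left.left

theorem Covers.prod {K : Type*} {V : K → EtOver X} (hV : Covers V) (W : EtOver X)
    (w : W.obj.left.left) : ∃ k, w ∈ Set.range (EtOver.prodFst W (V k)).hom.left.left := by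
  obtain ⟨k, W', b, a, w', hw'⟩ := hV W w
  let l : W' ⟶ EtOver.prodObj W (V k) := (EtOver.prodIsLimit W (V k)).lift (BinaryFan.mk b a)
  have hl : l ≫ EtOver.prodFst W (V k) = b :=
    (EtOver.prodIsLimit W (V k)).fac (BinaryFan.mk b a) ⟨WalkingPair.left⟩
  refine ⟨k, l.hom.left.left w', ?_⟩
  rw [← hw', ← hl]
  rfl

section Glue

variable {G F : ModEt X}

/-- Compatible local homomorphisms glue. -/
theorem exists_hom {K : Type*} {V : K → EtOver X} (hV : Covers V)
    (f : ∀ k {W : EtOver X}, (W ⟶ V k) → (sectModEt G W →ₗ[fn W] sectModEt F W))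
    (nat : ∀ k {W W' : EtOver X} (h : W' ⟶ W) (a : W ⟶ V k) (s : sectModEt G W),
      f k (h ≫ a) (res G h s) = res F h (f k a s))
    (agree : ∀ k l {W : EtOver X} (a : W ⟶ V k) (b : W ⟶ V l), f k a = f l b) :
    ∃ φ : G ⟶ F, ∀ k {W : EtOver X} (a : W ⟶ V k) (s : sectModEt G W), secMap φ W s = f k a s := by
  have hex : ∀ (W : EtOver X) (s : sectModEt G W), ∃ t : sectModEt F W,
      ∀ (k : K) {W' : EtOver X} (h : W' ⟶ W) (a : W' ⟶ V k), res F h t = f k a (res G h s) := by
    intro W s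
    obtain ⟨t, ht⟩ := exists_glue (fun k => EtOver.prodObj W (V k)) (fun k => EtOver.prodFst W (V k))
      (hV.prod W) (fun k => f k (EtOver.prodSnd W (V k)) (res G (EtOver.prodFst W (V k)) s))
      (fun k l => by
        rw [← nat, ← nat, ← res_comp_apply, ← res_comp_apply, EtOver.pullback_condition]
        rw [agree k l (_ ≫ EtOver.prodSnd W (V k))])
    refine ⟨t, fun k W' h a => ?_⟩
    let l : W' ⟶ EtOver.prodObj W (V k) := (EtOver.prodIsLimit W (V k)).lift (BinaryFan.mk h a)
    have h₁ : l ≫ EtOver.prodFst W (V k) = h :=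
      (EtOver.prodIsLimit W (V k)).fac (BinaryFan.mk h a) ⟨WalkingPair.left⟩
    have h₂ : l ≫ EtOver.prodSnd W (V k) = a :=
      (EtOver.prodIsLimit W (V k)).fac (BinaryFan.mk h a) ⟨WalkingPair.right⟩
    rw [← h₁, ← h₂, res_comp_apply, ht k, ← nat, res_comp_apply]
  choose g hg using hex
  have huniq : ∀ (W : EtOver X) (t t' : sectModEt F W),
      (∀ k, res F (EtOver.prodFst W (V k)) t = res F (EtOver.prodFst W (V k)) t') → t = t' :=
    fun W t t' h => eq_of_cover _ (fun k => EtOver.prodFst W (V k)) (hV.prod W) h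
  have hadd : ∀ W s s', g W (s + s') = g W s + g W s' := fun W s s' => huniq W _ _ fun k => by
    rw [map_add, hg W _ k _ (EtOver.prodSnd W (V k)), hg W _ k _ (EtOver.prodSnd W (V k)),
      hg W _ k _ (EtOver.prodSnd W (V k)), map_add, map_add]
  have hsmul : ∀ W (r : fn W) s, g W (r • s) = r • g W s := fun W r s => huniq W _ _ fun k => by
    rw [res_smul, hg W _ k _ (EtOver.prodSnd W (V k)), hg W _ k _ (EtOver.prodSnd W (V k)), res_smul,
      map_smul]
  have hnat : ∀ (W W' : EtOver X) (h : W' ⟶ W) s, g W' (res G h s) = res F h (g W s) :=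
    fun W W' h s => huniq W' _ _ fun k => by
    rw [hg W' _ k _ (EtOver.prodSnd W' (V k)), ← res_comp_apply, ← res_comp_apply,
      hg W s k _ (EtOver.prodSnd W' (V k))]
  let φ : G ⟶ F := ⟨PresheafOfModules.homMk
    { app := fun Y => AddCommGrpCat.ofHom (AddMonoidHom.mk' (g Y.unop) (hadd Y.unop))
      naturality := fun Y Y' h => by
        ext s
        exact hnat Y.unop Y'.unop h.unop s }
    (fun Y r s => hsmul Y.unop r.down s)⟩
  refine ⟨φ, fun k W a s => ?_⟩
  have := hg W s k (𝟙 W) a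
  rw [res_id_apply, res_id_apply] at this
  exact this

end Glue

section Slice

variable {V : EtOver X}

theorem sections_ext_base {P : SliceMod V} {s t : P.sections}
    (h : PresheafOfModules.sections.eval s (op (Over.mk (𝟙 V))) =
      PresheafOfModules.sections.eval t (op (Over.mk (𝟙 V)))) : s = t := by
  refine Subtype.ext (funext fun Y => ?_)
  let g : Y.unop ⟶ Over.mk (𝟙 V) := Over.homMk Y.unop.hom
  have hs := s.2 g.op
  have ht := t.2 g.op
  exact hs.symm.trans ((congrArg _ h).trans ht)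

/-- A slice morphism on sections. -/
noncomputable def fam {G F : ModEt X} (ψ : G.over V ⟶ F.over V) {W : EtOver X} (a : W ⟶ V) :
    sectModEt G W →ₗ[fn W] sectModEt F W :=
  sMap ψ a

theorem fam_nat {G F : ModEt X} (ψ : G.over V ⟶ F.over V) {W W' : EtOver X} (h : W' ⟶ W) (a : W ⟶ V)
    (s : sectModEt G W) : fam ψ (h ≫ a) (res G h s) = res F h (fam ψ a s) :=
  sMap_sres ψ h rfl s

theorem fam_over {G F : ModEt X} (φ : G ⟶ F) {W : EtOver X} (a : W ⟶ V) (s : sectModEt G W) :
    fam (φ.over V) a s = secMap φ W s :=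
  rfl

theorem fam_comp {G F F' : ModEt X} (ψ : G.over V ⟶ F.over V) (χ : F ⟶ F') {W : EtOver X} (a : W ⟶ V)
    (s : sectModEt G W) : fam (ψ ≫ χ.over V) a s = secMap χ W (fam ψ a s) :=
  rfl

/-- The value of a section of the slice over the base. -/
noncomputable abbrev evalBase {P : SliceMod V} (s : P.sections) : SSec P (𝟙 V) :=
  PresheafOfModules.sections.eval s (op (Over.mk (𝟙 V)))

theorem evalBase_map {P Q : SliceMod V} (θ : P ⟶ Q) (s : P.sections) :
    evalBase (SheafOfModules.sectionsMap θ s) = sMap θ (𝟙 V) (evalBase s) :=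
  rfl

theorem free_hom_ext {ι : Type (u + 1)} {Q : SliceMod V} {α β : sfree (X₀ := V) ι ⟶ Q}
    (h : ∀ i, evalBase (SheafOfModules.sectionsMap α (SheafOfModules.freeSection i)) =
      evalBase (SheafOfModules.sectionsMap β (SheafOfModules.freeSection i))) : α = β :=
  Q.freeHomEquiv.injective (funext fun i => sections_ext_base (h i))

variable {P Q Q' : SliceMod V} (σ : P.Presentation)

/-- The values of the relations under a map from the free module on the generators. -/
noncomputable abbrev relVal (t : σ.generators.I → SSec Q (𝟙 V)) (j : σ.relations.I) : SSec Q (𝟙 V) :=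
  sMap (Q.freeHomEquiv.symm fun k => genAll Q (t k)) (𝟙 V)
    (evalBase (SheafOfModules.sectionsMap (kernel.ι σ.generators.π) (σ.relations.s j)))

theorem free_comp_eq (t : σ.generators.I → SSec Q (𝟙 V)) (θ : Q ⟶ Q') (φ : P ⟶ Q')
    (h : ∀ k, sMap θ (𝟙 V) (t k) = sMap φ (𝟙 V) (evalBase (σ.generators.s k))) :
    (Q.freeHomEquiv.symm fun k => genAll Q (t k)) ≫ θ = σ.generators.π ≫ φ := by
  refine free_hom_ext fun k => ?_
  rw [SheafOfModules.sectionsMap_comp, SheafOfModules.sectionsMap_comp,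
    SheafOfModules.sectionsMap_freeHomEquiv_symm_freeSection (fun k => genAll Q (t k)) k,
    SheafOfModules.sectionsMap_freeHomEquiv_symm_freeSection σ.generators.s k]
  rw [evalBase_map, evalBase_map, ← h k]
  exact congrArg (sMap θ (𝟙 V)) (eval_genAll Q (t k))

theorem sMap_relVal_eq_zero (t : σ.generators.I → SSec Q (𝟙 V)) (θ : Q ⟶ Q') (φ : P ⟶ Q')
    (h : ∀ k, sMap θ (𝟙 V) (t k) = sMap φ (𝟙 V) (evalBase (σ.generators.s k))) (j : σ.relations.I) :
    sMap θ (𝟙 V) (relVal σ t j) = 0 := by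
  change sMap ((Q.freeHomEquiv.symm fun k => genAll Q (t k)) ≫ θ) (𝟙 V) _ = 0
  rw [free_comp_eq σ t θ φ h]
  change sMap φ (𝟙 V) (sMap σ.generators.π (𝟙 V) _) = 0
  rw [sMap_eval_kernel σ.generators.π (σ.relations.s j) (𝟙 V), map_zero]

set_option maxHeartbeats 1000000 in
theorem exists_desc (t : σ.generators.I → SSec Q (𝟙 V)) {Q'' : SliceMod V} (θ : Q ⟶ Q') (φ : P ⟶ Q')
    (h : ∀ k, sMap θ (𝟙 V) (t k) = sMap φ (𝟙 V) (evalBase (σ.generators.s k)))
    (ρ : Q ⟶ Q'') (θ' : Q'' ⟶ Q') (hρ : ρ ≫ θ' = θ) (hr : ∀ j, sMap ρ (𝟙 V) (relVal σ t j) = 0) :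
    ∃ ψ : P ⟶ Q'', ψ ≫ θ' = φ := by
  haveI := σ.generators.epi
  haveI := σ.relations.epi
  have hz : σ.relations.π ≫ kernel.ι σ.generators.π ≫
      ((Q.freeHomEquiv (I := σ.generators.I)).symm (fun k => genAll Q (t k)) ≫ ρ) = 0 := by
    refine free_hom_ext fun j => ?_
    have e : SheafOfModules.sectionsMap σ.relations.π (SheafOfModules.freeSection j) = σ.relations.s j :=
      SheafOfModules.sectionsMap_freeHomEquiv_symm_freeSection σ.relations.s j
    exact (congrArg (fun z => evalBase (SheafOfModules.sectionsMap (kernel.ι σ.generators.π ≫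
      ((Q.freeHomEquiv (I := σ.generators.I)).symm (fun k => genAll Q (t k)) ≫ ρ)) z)) e).trans (hr j)
  obtain ⟨ψ, hψ⟩ := CokernelCofork.IsColimit.desc' σ.isColimit
    ((Q.freeHomEquiv (I := σ.generators.I)).symm (fun k => genAll Q (t k)) ≫ ρ)
    ((Category.assoc _ _ _).trans hz)
  refine ⟨ψ, (cancel_epi σ.generators.π).1 ?_⟩
  calc σ.generators.π ≫ ψ ≫ θ' = (σ.generators.π ≫ ψ) ≫ θ' := (Category.assoc _ _ _).symm
    _ = ((Q.freeHomEquiv (I := σ.generators.I)).symm (fun k => genAll Q (t k)) ≫ ρ) ≫ θ' :=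
      congrArg (fun z => z ≫ θ') hψ
    _ = (Q.freeHomEquiv (I := σ.generators.I)).symm (fun k => genAll Q (t k)) ≫ θ :=
      (Category.assoc _ _ _).trans (congrArg (fun z => _ ≫ z) hρ)
    _ = σ.generators.π ≫ φ := free_comp_eq σ t θ φ h

end Slice

section Colim

variable [QuasiSeparatedSpace ↥S] (hqs : IsQuasiSeparatedSp X)
variable {Λ : Type (u + 1)} [SmallCategory Λ] [IsFiltered Λ] {D : Λ ⥤ ModEt X} {c : Cocone D}
  (hc : IsColimit c) {G : ModEt X}

omit [QuasiSeparatedSpace ↥S] in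
include hc in
/-- Local lifting of a homomorphism to a stage. -/
theorem exists_local_lift (φ : G ⟶ c.pt) (V : EtOver X) (hV : IsQcqsObj X V)
    (σ : (G.over V).Presentation) [σ.IsFinite] :
    ∃ (i : Λ) (ψ : G.over V ⟶ (D.obj i).over V), ψ ≫ (c.ι.app i).over V = φ.over V := by
  haveI : Finite σ.generators.I := SheafOfModules.Presentation.IsFinite.isFiniteType_generators.finite
  haveI : Finite σ.relations.I := SheafOfModules.Presentation.IsFinite.isFiniteType_relations.finite
  obtain ⟨i, t, ht⟩ := SectColim.exists_rep_family hc hV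
    (fun k => fam (φ.over V) (𝟙 V) (evalBase (σ.generators.s k)))
  have h : ∀ k, sMap ((c.ι.app i).over V) (𝟙 V) (t k : SSec ((D.obj i).over V) (𝟙 V)) =
      sMap (φ.over V) (𝟙 V) (evalBase (σ.generators.s k)) := ht
  obtain ⟨m, a, ha⟩ := SectColim.exists_eq_family hc hV
    (fun j => (relVal (Q := (D.obj i).over V) σ t j : sectModEt (D.obj i) V)) (fun _ => 0) (fun j =>
      (sMap_relVal_eq_zero (Q := (D.obj i).over V) σ t ((c.ι.app i).over V) (φ.over V) h j).trans (map_zero _).symm)
  obtain ⟨ψ, hψ⟩ := exists_desc (Q := (D.obj i).over V) σ t ((c.ι.app i).over V) (φ.over V) h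
    ((D.map a).over V) ((c.ι.app m).over V)
    (((SheafOfModules.overFunctor (OEtRing X) V).map_comp _ _).symm.trans
      (congrArg (SheafOfModules.overFunctor (OEtRing X) V).map (c.w a)))
    (fun j => (ha j).trans (map_zero _))
  exact ⟨m, ψ, hψ⟩

omit [QuasiSeparatedSpace ↥S] in
/-- A quasi-compact object has a finite affine covering. -/
theorem exists_affine_cover (E : EtOver X) [CompactSpace E.obj.left.left] :
    ∃ (n : ℕ) (U : Fin n → EtOver X) (g : ∀ j, U j ⟶ E), (∀ j, IsAffine (U j).obj.left.left) ∧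
      ∀ x : E.obj.left.left, ∃ j, x ∈ Set.range (g j).hom.left.left := by
  choose W g hW hx using fun x : E.obj.left.left => exists_affine_open_obj x
  have hopen : ∀ x, IsOpen (Set.range (g x).hom.left.left) := fun x => by
    have := EtOver.etale_left (g x)
    exact (g x).hom.left.left.isOpenMap.isOpen_range
  obtain ⟨t, ht⟩ := isCompact_univ.elim_finite_subcover (fun x => Set.range (g x).hom.left.left) hopen
    fun x _ => Set.mem_iUnion.2 ⟨x, hx x⟩
  let e := t.equivFin.symm
  refine ⟨t.card, fun k => W (e k).1, fun k => g (e k).1, fun k => hW _, fun x => ?_⟩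
  obtain ⟨x', hx', hxx'⟩ := Set.mem_iUnion₂.1 (ht (Set.mem_univ x))
  obtain ⟨k, hk⟩ := e.surjective ⟨x', hx'⟩
  obtain rfl : x' = (e k).1 := (congrArg Subtype.val hk).symm
  exact ⟨k, hxx'⟩

omit [QuasiSeparatedSpace ↥S] in
/-- A finitely presented module has finitely many affine charts with finite presentations covering
a space with a quasi-compact atlas. -/
theorem exists_presented_cover [G.IsFinitePresentation] {E₀ : EtOver X} [IsAffine E₀.obj.left.left]
    (hs : RepWith @Surjective E₀.obj.hom) :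
    ∃ (n : ℕ) (V : Fin n → EtOver X) (σ : ∀ k, (G.over (V k)).Presentation),
      (∀ k, IsAffine (V k).obj.left.left) ∧ (∀ k, (σ k).IsFinite) ∧ Covers V := by
  obtain ⟨q, hq⟩ := SheafOfModules.IsFinitePresentation.exists_quasicoherentData G
  obtain ⟨C, hC⟩ := exists_affCover (q.coversTop E₀)
  choose i b using fun k => (Sieve.mem_ofObjects_iff ..).mp (hC k)
  have hb : ∀ k, Nonempty (C.V k ⟶ q.X (i k)) := b
  let σ : ∀ k, (G.over (C.V k)).Presentation := fun k =>
    haveI : PreservesColimitsOfSize.{u + 1, u + 1} (SheafOfModules.overMap (OEtRing X) (hb k).some) :=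
      (SheafOfModules.overMapPushforwardAdj (OEtRing X) (hb k).some).leftAdjoint_preservesColimits
    ((q.presentation (i k)).map (SheafOfModules.overMap (OEtRing X) (hb k).some)
      (SheafOfModules.overMapUnitIso (hb k).some).symm).ofIsIso
        ((SheafOfModules.overFunctorMap (OEtRing X) (hb k).some).hom.app G)
  refine ⟨C.n, C.V, σ, C.aff, fun k => ?_, fun W w => ?_⟩
  · haveI : (q.presentation (i k)).IsFinite := hq.isFinite_presentation (i k)
    exact { isFiniteType_generators := ⟨inferInstanceAs (Finite (q.presentation (i k)).generators.I)⟩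
            isFiniteType_relations := ⟨inferInstanceAs (Finite (q.presentation (i k)).relations.I)⟩ }
  · obtain ⟨u, hu⟩ := Groth.Agent.Lib.AlgSpDecent.Core.surjective_ofPt hs (Points.ofPt W.obj.hom w)
    obtain ⟨k, v, rfl⟩ := C.cov u
    rw [ofPt_comp_left] at hu
    obtain ⟨W', hW', a, b', w', ha, hb'⟩ := exists_common_chart hu
    exact ⟨k, W', b', a, w', hb'⟩

set_option maxHeartbeats 1000000 in
omit [QuasiSeparatedSpace ↥S] in
include hc in
/-- A homomorphism killed in the colimit is killed at a stage. -/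
theorem exists_killed {n : ℕ} {V : Fin n → EtOver X} (σ : ∀ k, (G.over (V k)).Presentation)
    (hV : ∀ k, IsQcqsObj X (V k)) (hσ : ∀ k, (σ k).IsFinite) (hcov : Covers V) {i : Λ}
    (φ φ' : G ⟶ D.obj i) (h : φ ≫ c.ι.app i = φ' ≫ c.ι.app i) :
    ∃ (m : Λ) (a : i ⟶ m), φ ≫ D.map a = φ' ≫ D.map a := by
  haveI : ∀ k, Finite (σ k).generators.I := fun k =>
    (hσ k).isFiniteType_generators.finite
  have hk : ∀ k : ULift.{u + 1} (Fin n), ∃ (m : Λ) (a : i ⟶ m), ∀ g : (σ k.down).generators.I,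
      secMap (D.map a) (V k.down) (fam (φ.over (V k.down)) (𝟙 _) (evalBase ((σ k.down).generators.s g))) =
      secMap (D.map a) (V k.down) (fam (φ'.over (V k.down)) (𝟙 _) (evalBase ((σ k.down).generators.s g))) :=
    fun k => SectColim.exists_eq_family hc (hV k.down) _ _ fun g => by
      change secMap (φ ≫ c.ι.app i) _ _ = secMap (φ' ≫ c.ι.app i) _ _
      rw [h]
  choose j a ha using hk
  obtain ⟨m, b, d, hd⟩ := Groth.TFin.exists_common i j a
  refine ⟨m, b, ?_⟩
  have hov : ∀ k, (φ ≫ D.map b).over (V k) = (φ' ≫ D.map b).over (V k) := fun k => by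
    haveI := (σ k).generators.epi
    refine (cancel_epi (σ k).generators.π).1 (free_hom_ext fun g => ?_)
    have e : SheafOfModules.sectionsMap (σ k).generators.π (SheafOfModules.freeSection g) = (σ k).generators.s g :=
      SheafOfModules.sectionsMap_freeHomEquiv_symm_freeSection (σ k).generators.s g
    rw [SheafOfModules.sectionsMap_comp, SheafOfModules.sectionsMap_comp, e]
    change secMap (φ ≫ D.map b) (V k) _ = secMap (φ' ≫ D.map b) (V k) _
    rw [← hd ⟨k⟩, D.map_comp, secMap_comp, secMap_comp, secMap_comp, secMap_comp]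
    exact congrArg (secMap (D.map (d ⟨k⟩)) (V k)) (ha ⟨k⟩ g)
  refine SheafOfModules.hom_ext (PresheafOfModules.hom_ext fun Y => ModuleCat.hom_ext (LinearMap.ext fun s => ?_))
  obtain ⟨W⟩ := Y
  show secMap (φ ≫ D.map b) W s = secMap (φ' ≫ D.map b) W s
  refine eq_of_cover _ (fun k => EtOver.prodFst W (V k)) (hcov.prod W) fun k => ?_
  rw [← secMap_res, ← secMap_res]
  exact congrArg (fun χ : G.over (V k) ⟶ (D.obj m).over (V k) => fam χ (EtOver.prodSnd W (V k))
    (res G (EtOver.prodFst W (V k)) s)) (hov k)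

omit [QuasiSeparatedSpace ↥S] in
include hc in
/-- Families agreeing in the colimit on a compact object agree at a stage. -/
theorem exists_agree [G.IsFinitePresentation] {i : Λ} {V₁ V₂ : EtOver X}
    (hP : IsQcqsObj X (EtOver.prodObj V₁ V₂)) (φ : G ⟶ c.pt)
    (ψ₁ : G.over V₁ ⟶ (D.obj i).over V₁) (h₁ : ψ₁ ≫ (c.ι.app i).over V₁ = φ.over V₁)
    (ψ₂ : G.over V₂ ⟶ (D.obj i).over V₂) (h₂ : ψ₂ ≫ (c.ι.app i).over V₂ = φ.over V₂) :
    ∃ (m : Λ) (a : i ⟶ m), ∀ {W : EtOver X} (p : W ⟶ V₁) (q : W ⟶ V₂) (s : sectModEt G W),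
      secMap (D.map a) W (fam ψ₁ p s) = secMap (D.map a) W (fam ψ₂ q s) := by
  haveI : CompactSpace (EtOver.prodObj V₁ V₂).obj.left.left := hP.1
  obtain ⟨n, U, g, hU, hcov⟩ := exists_affine_cover (EtOver.prodObj V₁ V₂)
  let p₀ : ∀ j, U j ⟶ V₁ := fun j => g j ≫ EtOver.prodFst V₁ V₂
  let q₀ : ∀ j, U j ⟶ V₂ := fun j => g j ≫ EtOver.prodSnd V₁ V₂
  have hj : ∀ j : ULift.{u + 1} (Fin n), ∃ (m : Λ) (a : i ⟶ m), ∀ s : sectModEt G (U j.down),
      secMap (D.map a) _ (fam ψ₁ (p₀ j.down) s) = secMap (D.map a) _ (fam ψ₂ (q₀ j.down) s) := by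
    intro j
    haveI := hU j.down
    haveI := finite_of_isFinitePresentation (M := G) (U j.down)
    obtain ⟨N, s, hs⟩ := Module.Finite.exists_fin (R := fn (U j.down)) (M := sectModEt G (U j.down))
    obtain ⟨m, a, ha⟩ := SectColim.exists_eq_family hc (isQcqsObj_of_isAffine (U j.down))
      (fun k => fam ψ₁ (p₀ j.down) (s k)) (fun k => fam ψ₂ (q₀ j.down) (s k)) fun k => by
        rw [← fam_comp, ← fam_comp, h₁, h₂]
        rfl
    refine ⟨m, a, fun x => ?_⟩
    have hx : x ∈ Submodule.span (fn (U j.down)) (Set.range s) := hs ▸ Submodule.mem_top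
    induction hx using Submodule.span_induction with
    | mem y hy => obtain ⟨k, rfl⟩ := hy; exact ha k
    | zero => simp only [map_zero]
    | add y z _ _ hy hz => simp only [map_add, hy, hz]
    | smul r y _ hy => simp only [map_smul, hy]
  choose j a ha using hj
  obtain ⟨m, b, d, hd⟩ := Groth.TFin.exists_common i j a
  refine ⟨m, b, fun {W} p q s => ?_⟩
  let l : W ⟶ EtOver.prodObj V₁ V₂ := (EtOver.prodIsLimit V₁ V₂).lift (BinaryFan.mk p q)
  have hl₁ : l ≫ EtOver.prodFst V₁ V₂ = p :=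
    (EtOver.prodIsLimit V₁ V₂).fac (BinaryFan.mk p q) ⟨WalkingPair.left⟩
  have hl₂ : l ≫ EtOver.prodSnd V₁ V₂ = q :=
    (EtOver.prodIsLimit V₁ V₂).fac (BinaryFan.mk p q) ⟨WalkingPair.right⟩
  have hpt : ∀ w : W.obj.left.left, ∃ (k : Fin n) (W' : EtOver X) (b : W' ⟶ W) (e : W' ⟶ U k),
      IsAffine W'.obj.left.left ∧ b ≫ l = e ≫ g k ∧ w ∈ Set.range b.hom.left.left := by
    intro w
    obtain ⟨k, u, hu⟩ := hcov (l.hom.left.left w)
    obtain ⟨z, hz₁, hz₂⟩ := Scheme.exists_preimage_of_isPullback (isPullback_left l (g k)) w u hu.symm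
    obtain ⟨W', j', hW', w', hw'⟩ := exists_affine_open_obj z
    refine ⟨k, W', j' ≫ EtOver.pullbackFst l (g k), j' ≫ EtOver.pullbackSnd l (g k), hW',
      by rw [Category.assoc, Category.assoc, EtOver.pullback_condition], w', ?_⟩
    change (EtOver.pullbackFst l (g k)).hom.left.left (j'.hom.left.left w') = w
    rw [hw']
    exact hz₁
  choose k W' bb e hW' he hw using hpt
  refine eq_of_cover W' bb (fun w => ⟨w, hw w⟩) fun w => ?_
  haveI := hW' w
  haveI := hU (k w)
  rw [← secMap_res, ← secMap_res, ← fam_nat, ← fam_nat,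
    show bb w ≫ p = e w ≫ p₀ (k w) by rw [← hl₁, ← Category.assoc, he, Category.assoc],
    show bb w ≫ q = e w ≫ q₀ (k w) by rw [← hl₂, ← Category.assoc, he, Category.assoc]]
  have hx : res G (bb w) s ∈ Submodule.span (fn (W' w)) (Set.range (res G (e w))) := by
    rw [span_res_eq_top isCart_of_isFinitePresentation]
    exact Submodule.mem_top
  generalize res G (bb w) s = x at hx ⊢
  induction hx using Submodule.span_induction with
  | mem y hy =>
    obtain ⟨x, rfl⟩ := hy
    rw [fam_nat, fam_nat, secMap_res, secMap_res, ← hd ⟨k w⟩, D.map_comp, secMap_comp, secMap_comp, ha ⟨k w⟩ x]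
  | zero => simp only [map_zero]
  | add y z _ _ hy hz => simp only [map_add, hy, hz]
  | smul r y _ hy => simp only [map_smul, hy]

include hqs hc in
/-- A homomorphism to the colimit factors through a stage. -/
theorem exists_lift [G.IsFinitePresentation] {n : ℕ} {V : Fin n → EtOver X}
    (σ : ∀ k, (G.over (V k)).Presentation) (hV : ∀ k, IsQcqsObj X (V k)) (hσ : ∀ k, (σ k).IsFinite)
    (hcov : Covers V) (φ : G ⟶ c.pt) : ∃ (i : Λ) (φ' : G ⟶ D.obj i), φ' ≫ c.ι.app i = φ := by
  choose j ψ hψ using fun k => haveI := hσ k; exists_local_lift hc φ (V k) (hV k) (σ k)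
  classical
  obtain ⟨i, hi⟩ := IsFiltered.sup_objs_exists (Finset.univ.image j)
  let f : ∀ k, j k ⟶ i := fun k => (hi (Finset.mem_image_of_mem j (Finset.mem_univ k))).some
  let ψ' : ∀ k, G.over (V k) ⟶ (D.obj i).over (V k) := fun k => ψ k ≫ (D.map (f k)).over (V k)
  have hψ' : ∀ k, ψ' k ≫ (c.ι.app i).over (V k) = φ.over (V k) := fun k =>
    ((Category.assoc _ _ _).trans (congrArg (fun z => ψ k ≫ z)
      (((SheafOfModules.overFunctor (OEtRing X) (V k)).map_comp _ _).symm.trans
        (congrArg (SheafOfModules.overFunctor (OEtRing X) (V k)).map (c.w (f k)))))).trans (hψ k)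
  choose jj a ha using fun p : ULift.{u + 1} (Fin n × Fin n) => exists_agree hc
    (isQcqsObj_prod hqs _ _ (hV p.down.1) (hV p.down.2)) φ (ψ' p.down.1) (hψ' _) (ψ' p.down.2) (hψ' _)
  obtain ⟨m, b, d, hd⟩ := Groth.TFin.exists_common i jj a
  obtain ⟨φ', hφ'⟩ := exists_hom (G := G) (F := D.obj m) hcov
    (fun k {W} p => (secMap (D.map b) W).comp (fam (ψ' k) p))
    (fun k {W W'} h p s => by
      change secMap (D.map b) W' (fam (ψ' k) (h ≫ p) (res G h s)) = res (D.obj m) h (secMap (D.map b) W (fam (ψ' k) p s))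
      rw [fam_nat, secMap_res])
    (fun k l {W} p q => LinearMap.ext fun s => by
      change secMap (D.map b) W (fam (ψ' k) p s) = secMap (D.map b) W (fam (ψ' l) q s)
      rw [← hd ⟨k, l⟩, D.map_comp, secMap_comp, secMap_comp]
      exact congrArg (secMap (D.map (d ⟨k, l⟩)) W) (ha ⟨k, l⟩ p q s))
  refine ⟨m, φ', SheafOfModules.hom_ext (PresheafOfModules.hom_ext fun Y =>
    ModuleCat.hom_ext (LinearMap.ext fun s => ?_))⟩
  obtain ⟨W⟩ := Y
  show secMap (φ' ≫ c.ι.app m) W s = secMap φ W s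
  refine eq_of_cover _ (fun k => EtOver.prodFst W (V k)) (hcov.prod W) fun k => ?_
  refine Eq.trans ?_ (secMap_res φ (EtOver.prodFst W (V k)) s)
  refine (secMap_res (φ' ≫ c.ι.app m) (EtOver.prodFst W (V k)) s).symm.trans ?_
  rw [secMap_comp, hφ' k (EtOver.prodSnd W (V k))]
  change secMap (c.ι.app m) _ (secMap (D.map b) _ (fam (ψ' k) _ _)) = _
  rw [← secMap_comp, c.w, ← fam_comp, hψ' k]
  rfl

end Colim

end Groth.Agent.H8.FPHomColim
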