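import Groth.Agent.Lib.EtMod.Torsion
import Groth.Agent.Lib.EtMod.Coherent
import Groth.Agent.H8.FPHomColim

/-!
# The quasi-coherent submodule of sections bounded by given sections on a chart

For a quasi-coherent `M`, an affine chart `E₀ ⟶ X` of a quasi-separated space and a set `G` of
sections of `M` over `E₀`, the sections which lie, on every affine object over the chart, in the
span of `G` form a quasi-coherent submodule; on the chart it lies in the span of `G`, and these
submodules exhaust `M`.
-/

set_option autoImplicit false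
set_option backward.isDefEq.respectTransparency false
set_option backward.isDefEq.respectTransparency.types false
set_option linter.style.haveILetI false

universe u

open CategoryTheory CategoryTheory.Limits AlgebraicGeometry Opposite AlgSp
open TensorProduct
open Groth.Agent.Lib.EtMod Groth.Agent.H8.QcqsSite

namespace Groth.Agent.H8.BoundSub

variable {S : Scheme.{u}} {X : Sp S} (M : ModEt X) (E₀ : EtOver X) (G : Set (sectModEt M E₀))

/-- Sections bounded by `G`. -/
def Bounded (E : EtOver X) (s : sectModEt M E) : Prop :=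
  ∀ (W : EtOver X), IsAffine W.obj.left.left → ∀ (a : W ⟶ E) (b : W ⟶ E₀),
    res M a s ∈ Submodule.span (fn W) (res M b '' G)

/-- The submodule of bounded sections. -/
noncomputable def bSub : M.val.Submodule where
  obj Y :=
    { carrier := {s | Bounded M E₀ G Y.unop s}
      add_mem' := fun {s t} hs ht W hW a b => by
        rw [map_add]
        exact Submodule.add_mem _ (hs W hW a b) (ht W hW a b)
      zero_mem' := fun W hW a b => by
        rw [map_zero]
        exact Submodule.zero_mem _
      smul_mem' := fun r s hs W hW a b => by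
        change res M a (HSMul.hSMul (α := fn Y.unop) r.down (show sectModEt M Y.unop from s)) ∈ _
        rw [res_smul]
        exact Submodule.smul_mem _ _ (hs W hW a b) }
  map {Y Y'} g := fun s hs W hW a b => by
    change res M a (res M g.unop s) ∈ _
    rw [← res_comp_apply]
    exact hs W hW (a ≫ g.unop) b

/-- The bounded subsheaf. -/
noncomputable abbrev bSheaf : ModEt X := SubSheaf.closureSheaf (bSub M E₀ G)

/-- Its inclusion. -/
noncomputable abbrev bι : bSheaf M E₀ G ⟶ M := SubSheaf.closureι (bSub M E₀ G)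

variable {M E₀ G}

theorem secMap_bι_injective (E : EtOver X) : Function.Injective (secMap (bι M E₀ G) E) :=
  fun _ _ h => Subtype.ext h

theorem bounded_of_closure (hM : IsCart M) {E : EtOver X} {s : sectModEt M E}
    (h : s ∈ (SubSheaf.closure (bSub M E₀ G)).obj (op E)) : Bounded M E₀ G E s := by
  intro W hW a b
  haveI := hW
  obtain ⟨C, hC⟩ := exists_affCover ((etTop X).pullback_stable a h)
  refine mem_span_of_local hM C fun k => ?_
  have hk : Bounded M E₀ G (C.V k) (res M (C.g k ≫ a) s) := hC k
  have := hk (C.V k) (C.aff k) (𝟙 _) (C.g k ≫ b)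
  rw [res_id_apply, res_comp_apply] at this
  refine Submodule.span_mono ?_ this
  rintro _ ⟨x, hx, rfl⟩
  exact ⟨_, ⟨x, hx, rfl⟩, (res_comp_apply _ _ _).symm⟩

theorem mem_range_bι (hM : IsCart M) {E : EtOver X} (s : sectModEt M E) :
    s ∈ Set.range (secMap (bι M E₀ G) E) ↔ Bounded M E₀ G E s :=
  ⟨fun ⟨x, hx⟩ => hx ▸ bounded_of_closure hM x.2,
    fun h => ⟨⟨s, SubSheaf.le_closure (bSub M E₀ G) (op E) h⟩, rfl⟩⟩

/-- Boundedness can be tested on a covering of the product with the chart. -/
theorem bounded_of_cover (hM : IsCart M) {E : EtOver X} (s : sectModEt M E) {n : ℕ} (U : Fin n → EtOver X)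
    (g : ∀ j, U j ⟶ EtOver.prodObj E E₀)
    (hcov : ∀ x : (EtOver.prodObj E E₀).obj.left.left, ∃ j, x ∈ Set.range (g j).hom.left.left)
    (h : ∀ j, res M (g j ≫ EtOver.prodFst E E₀) s ∈
      Submodule.span (fn (U j)) (res M (g j ≫ EtOver.prodSnd E E₀) '' G)) :
    Bounded M E₀ G E s := by
  intro W hW a b
  haveI := hW
  let l : W ⟶ EtOver.prodObj E E₀ := (EtOver.prodIsLimit E E₀).lift (BinaryFan.mk a b)
  have hl₁ : l ≫ EtOver.prodFst E E₀ = a :=
    (EtOver.prodIsLimit E E₀).fac (BinaryFan.mk a b) ⟨WalkingPair.left⟩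
  have hl₂ : l ≫ EtOver.prodSnd E E₀ = b :=
    (EtOver.prodIsLimit E E₀).fac (BinaryFan.mk a b) ⟨WalkingPair.right⟩
  have hR : Sieve.ofArrows (fun j => EtOver.pullbackObj l (g j)) (fun j => EtOver.pullbackFst l (g j)) ∈
      etTop X W := ofArrows_mem_etTop _ _ fun w => by
    obtain ⟨j, hj⟩ := hcov (l.hom.left.left w)
    exact ⟨j, exists_pullbackFst_preimage l (g j) hj⟩
  obtain ⟨C, hC⟩ := exists_affCover hR
  refine mem_span_of_local hM C fun k => ?_
  obtain ⟨_, c, _, ⟨j⟩, hk⟩ := hC k
  have h₁ : C.g k ≫ a = (c ≫ EtOver.pullbackSnd l (g j)) ≫ g j ≫ EtOver.prodFst E E₀ := by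
    rw [← hl₁, ← hk, Category.assoc, Category.assoc, ← Category.assoc (EtOver.pullbackFst l (g j)),
      EtOver.pullback_condition, Category.assoc]
  have h₂ : C.g k ≫ b = (c ≫ EtOver.pullbackSnd l (g j)) ≫ g j ≫ EtOver.prodSnd E E₀ := by
    rw [← hl₂, ← hk, Category.assoc, Category.assoc, ← Category.assoc (EtOver.pullbackFst l (g j)),
      EtOver.pullback_condition, Category.assoc]
  rw [← res_comp_apply, h₁, res_comp_apply]
  refine Submodule.span_mono ?_ (res_mem_span_res _ (h j))
  rintro _ ⟨_, ⟨x, hx, rfl⟩, rfl⟩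
  refine ⟨_, ⟨x, hx, rfl⟩, ?_⟩
  rw [← res_comp_apply, ← res_comp_apply, h₂]

section PushoutSpan

variable {E V U : EtOver X} (g : V ⟶ E) (c : U ⟶ E)

/-- A span over the fibre product comes from the base change of the span. -/
theorem mem_range_of_mem_span [IsAffine E.obj.left.left] [IsAffine V.obj.left.left] [IsAffine U.obj.left.left]
    (hM : IsCart M) (T : Set (sectModEt M U)) (y : sectModEt M (EtOver.pullbackObj g c))
    (hy : y ∈ Submodule.span (fn (EtOver.pullbackObj g c)) (res M (EtOver.pullbackSnd g c) '' T)) :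
    ((Submodule.span (Fn c) (show Set (MSec M c) from T)).restrictScalars (fn E)).mkQ.lTensor (Fn g)
      ((isBaseChange_toPSnd g c (hM _)).equiv.symm (show PSec M g c from y)) = 0 := by
  let N := (Submodule.span (Fn c) (show Set (MSec M c) from T)).restrictScalars (fn E)
  let Φ := (isBaseChange_toPSnd g c (hM (EtOver.pullbackSnd g c))).equiv
  let K : Submodule (Fn g) (PSec M g c) := (LinearMap.ker (N.mkQ.baseChange (Fn g))).comap Φ.symm.toLinearMap
  let w := EtOver.pullbackFst g c ≫ g
  let e : EtOver.pullbackSnd g c ≫ c = w := (EtOver.pullback_condition g c).symm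
  letI : Algebra (Fn g) (Fn w) := (fnHom (EtOver.pullbackFst g c) (rfl : _ = w)).toRingHom.toAlgebra
  letI : Algebra (Fn c) (Fn w) := (fnHom (EtOver.pullbackSnd g c) e).toRingHom.toAlgebra
  haveI : IsScalarTower (fn E) (Fn g) (Fn w) :=
    .of_algebraMap_eq fun a => (AlgHom.commutes (fnHom (EtOver.pullbackFst g c) (rfl : _ = w)) a).symm
  haveI : IsScalarTower (fn E) (Fn c) (Fn w) :=
    .of_algebraMap_eq fun a => (AlgHom.commutes (fnHom (EtOver.pullbackSnd g c) e) a).symm
  haveI po : Algebra.IsPushout (fn E) (Fn g) (Fn c) (Fn w) :=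
    CommRingCat.isPushout_iff_isPushout.1 (isPushout_appTop_of_isPullback (isPullback_left g c))
  have hN : ∀ n ∈ N, toPSnd M g c n ∈ K := fun n hn => by
    change N.mkQ.baseChange (Fn g) (Φ.symm (toPSnd M g c n)) = 0
    have h1 : Φ.symm (toPSnd M g c n) = (1 : Fn g) ⊗ₜ n :=
      Φ.injective (by rw [LinearEquiv.apply_symm_apply, IsBaseChange.equiv_tmul, one_smul])
    rw [h1, LinearMap.baseChange_tmul]
    exact (congrArg _ ((Submodule.Quotient.mk_eq_zero N).2 hn)).trans (tmul_zero _ _)
  have hw : ∀ (r : Fn w) (n : MSec M c), n ∈ N → r • toPSnd M g c n ∈ K := fun r => by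
    induction r using po.out.inductionOn with
    | zero => exact fun n _ => by rw [zero_smul]; exact K.zero_mem
    | tmul a =>
      intro n hn
      have h1 : toPSnd M g c (a • n) = algebraMap (Fn c) (Fn w) a • toPSnd M g c n :=
        mRes_smul M (EtOver.pullbackSnd g c) e a n
      exact h1 ▸ hN _ (Submodule.smul_mem (Submodule.span (Fn c) _) a hn)
    | smul b r hr =>
      intro n hn
      have h1 : (b • r) • toPSnd M g c n = b • (r • toPSnd M g c n) := by
        rw [Algebra.smul_def, mul_smul]
        rfl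
      rw [h1]
      exact K.smul_mem b (hr n hn)
    | add r r' hr hr' =>
      intro n hn
      rw [add_smul]
      exact K.add_mem (hr n hn) (hr' n hn)
  have hall : ∀ r : Fn w, r • (show PSec M g c from y) ∈ K := by
    induction hy using Submodule.span_induction with
    | mem z hz =>
      obtain ⟨x, hx, rfl⟩ := hz
      exact fun r => hw r x (Submodule.subset_span hx)
    | zero =>
      intro r
      change r • (0 : PSec M g c) ∈ K
      rw [smul_zero]
      exact K.zero_mem
    | add a b _ _ ha hb => exact fun r => (smul_add r (show PSec M g c from a) (show PSec M g c from b)).symm ▸ K.add_mem (ha r) (hb r)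
    | smul a z _ hz => exact fun r => (mul_smul r (show Fn w from a) (show PSec M g c from z)) ▸ hz _
  have h1 := hall 1
  rw [one_smul] at h1
  exact h1

end PushoutSpan

/-- The bounded submodule is quasi-coherent. -/
theorem isCart_bSheaf [QuasiSeparatedSpace ↥S] (hqs : IsQuasiSeparatedSp X) (hM : IsCart M)
    [IsAffine E₀.obj.left.left] : IsCart (bSheaf M E₀ G) := by
  intro E V _ _ g
  haveI := flat_fn g
  haveI : CompactSpace (EtOver.prodObj E E₀).obj.left.left :=
    (isQcqsObj_prod hqs E E₀ (isQcqsObj_of_isAffine E) (isQcqsObj_of_isAffine E₀)).1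
  obtain ⟨n, U, gg, hU, hcov⟩ := FPHomColim.exists_affine_cover (EtOver.prodObj E E₀)
  let c : ∀ j, U j ⟶ E := fun j => gg j ≫ EtOver.prodFst E E₀
  let b : ∀ j, U j ⟶ E₀ := fun j => gg j ≫ EtOver.prodSnd E E₀
  let T : ∀ j, Set (sectModEt M (U j)) := fun j => res M (b j) '' G
  let N : ∀ j, Submodule (fn E) (MSec M (c j)) := fun j =>
    (Submodule.span (Fn (c j)) (show Set (MSec M (c j)) from T j)).restrictScalars (fn E)
  let d : sectModEt M E →ₗ[fn E] ∀ j, MSec M (c j) ⧸ N j :=
    LinearMap.pi fun j => (N j).mkQ.comp (mResL M (c j))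
  let ι := bι M E₀ G
  have hex : Function.Exact (secMap ι E) d := fun s => by
    refine Iff.trans ?_ (mem_range_bι hM s).symm
    constructor
    · intro h
      exact bounded_of_cover hM s U gg hcov fun j =>
        (Submodule.Quotient.mk_eq_zero (N j)).1 (congrFun h j)
    · intro h
      funext j
      exact (Submodule.Quotient.mk_eq_zero (N j)).2 (h (U j) (hU j) (c j) (b j))
  have h₁ : IsBaseChange (Fn g) (mResL M g) := hM g
  have key : IsBaseChange (Fn g) (mResL (bSheaf M E₀ G) g) :=
    Alg.isBaseChange_ker (B := Fn g) (f₀ := mResL (bSheaf M E₀ G) g) h₁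
      (r := secMap ι E) (d := d) (secMap_bι_injective E) hex (s := mSecMap ι g) (secMap_bι_injective V)
      (fun q => by
        refine (TensorProduct.piRight (fn E) (fn E) (Fn g) fun j => MSec M (c j) ⧸ N j).injective ?_
        rw [map_zero]
        funext j
        haveI := hU j
        have hpi : ∀ z, TensorProduct.piRight (fn E) (fn E) (Fn g) (fun j => MSec M (c j) ⧸ N j)
            (d.lTensor (Fn g) z) j = (N j).mkQ.lTensor (Fn g) ((mResL M (c j)).lTensor (Fn g) z) := fun z => by
          induction z using TensorProduct.induction_on with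
          | zero => simp
          | tmul r m => simp [d]
          | add x y hx hy => simp only [map_add, Pi.add_apply, hx, hy]
        rw [hpi]
        let Φ := (isBaseChange_toPSnd g (c j) (hM (EtOver.pullbackSnd g (c j)))).equiv
        have hΦ : ∀ z, Φ ((mResL M (c j)).lTensor (Fn g) z) = toPFst M g (c j) (h₁.equiv z) := fun z => by
          induction z using TensorProduct.induction_on with
          | zero => simp
          | tmul r m =>
            rw [LinearMap.lTensor_tmul, IsBaseChange.equiv_tmul, IsBaseChange.equiv_tmul, map_smul]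
            refine congrArg (fun t => r • t) ?_
            exact res_res_eq (M := M) _ _ _ _ (EtOver.pullback_condition g (c j)).symm m
          | add x y hx hy => simp only [map_add, hx, hy]
        have hz := hΦ (h₁.equiv.symm (mSecMap ι g q))
        rw [LinearEquiv.apply_symm_apply] at hz
        rw [← Φ.symm_apply_apply ((mResL M (c j)).lTensor (Fn g) _), hz]
        refine mem_range_of_mem_span g (c j) hM (T j) _ ?_
        haveI : IsAffine (EtOver.pullbackObj g (c j)).obj.left.left := isAffine_pullbackObj g (c j)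
        have hb := (mem_range_bι hM (secMap ι V q)).1 ⟨q, rfl⟩ _ this (EtOver.pullbackFst g (c j))
          (EtOver.pullbackSnd g (c j) ≫ b j)
        refine Submodule.span_mono ?_ hb
        rintro _ ⟨x, hx, rfl⟩
        exact ⟨_, ⟨x, hx, rfl⟩, (res_comp_apply _ _ _).symm⟩)
      (fun p => secMap_res ι g p)
  exact key

/-- On the chart the bounded sections lie in the span. -/
theorem range_bι_le_span (hM : IsCart M) [IsAffine E₀.obj.left.left] :
    LinearMap.range (secMap (bι M E₀ G) E₀) ≤ Submodule.span (fn E₀) G := by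
  rintro _ ⟨x, rfl⟩
  have := (mem_range_bι hM _).1 ⟨x, rfl⟩ E₀ inferInstance (𝟙 _) (𝟙 _)
  rw [res_id_apply] at this
  refine Submodule.span_mono ?_ this
  rintro _ ⟨y, hy, rfl⟩
  rwa [res_id_apply]

/-- Finitely many sections over the chart are bounded by finitely many sections. -/
theorem exists_finite_bound [QuasiSeparatedSpace ↥S] (hqs : IsQuasiSeparatedSp X) (hM : IsCart M)
    (E₀ : EtOver X) [IsAffine E₀.obj.left.left] {E : EtOver X} (hE : IsQcqsObj X E)
    (A : Finset (sectModEt M E)) :
    ∃ G : Finset (sectModEt M E₀), ∀ s ∈ A, Bounded M E₀ (G : Set (sectModEt M E₀)) E s := by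
  haveI : CompactSpace (EtOver.prodObj E E₀).obj.left.left :=
    (isQcqsObj_prod hqs E E₀ hE (isQcqsObj_of_isAffine E₀)).1
  obtain ⟨n, U, g, hU, hcov⟩ := FPHomColim.exists_affine_cover (EtOver.prodObj E E₀)
  have h : ∀ p : ↥A × Fin n, ∃ G : Finset (sectModEt M E₀),
      res M (g p.2 ≫ EtOver.prodFst E E₀) p.1.1 ∈
        Submodule.span (fn (U p.2)) (res M (g p.2 ≫ EtOver.prodSnd E E₀) '' (G : Set (sectModEt M E₀))) := by
    intro p
    haveI := hU p.2
    classical
    obtain ⟨T, hT, hm⟩ := Submodule.mem_span_finite_of_mem_span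
      (show res M (g p.2 ≫ EtOver.prodFst E E₀) p.1.1 ∈
        Submodule.span (fn (U p.2)) (Set.range (res M (g p.2 ≫ EtOver.prodSnd E E₀))) by
        rw [span_res_eq_top hM]; exact Submodule.mem_top)
    choose f hf using fun x : T => hT x.2
    refine ⟨Finset.univ.image f, Submodule.span_mono (fun x hx => ?_) hm⟩
    exact ⟨f ⟨x, hx⟩, by simp, hf ⟨x, hx⟩⟩
  choose G hG using h
  classical
  haveI : Fintype (↥A × Fin n) := Fintype.ofFinite _
  refine ⟨Finset.univ.biUnion G, fun s hs => bounded_of_cover hM s U g hcov fun j => ?_⟩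
  refine Submodule.span_mono (Set.image_mono ?_) (hG ⟨⟨s, hs⟩, j⟩)
  intro x hx
  exact Finset.mem_biUnion.2 ⟨_, Finset.mem_univ _, hx⟩

end Groth.Agent.H8.BoundSub
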