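import Groth.Prelude.Def_AlgSpSub
import Groth.Agent.Lib.AlgSpEDS.Basic
import Groth.Agent.Lib.AlgSpDecent.RedInduced
import Groth.Agent.Lib.AlgSpTopInv.Basic
import Groth.Agent.Lib.AlgSpace.OpenSubExists
import Groth.Agent.Lib.AlgSpMor.QC
import Groth.Agent.Lib.AlgSpMor.DiagCharts
import Groth.Agent.Lib.AlgSpDecent.DescendMor

/-!
# Induction along elementary distinguished squares
-/

set_option autoImplicit false
set_option linter.style.haveILetI false

universe u

open CategoryTheory CategoryTheory.Limits AlgebraicGeometry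

namespace Groth.Agent.H8.EDSInduction

open AlgSp (Sp yon RepWith IsAlgSpace Points Space IsEtaleMor IsElemDistSq EtSpOver)
open Groth.Agent.Lib.AlgSpace

variable {S : Scheme.{u}}

theorem mono_openImm {F G : Sp S} {j : F ⟶ G} (h : RepWith @IsOpenImmersion j) : Mono j :=
  mono_of_repWith (P := @IsOpenImmersion) (fun _ _ g (_ : IsOpenImmersion g) ↦ (inferInstance : Mono g)) h

theorem repWith_etale_of_openImm {F G : Sp S} {j : F ⟶ G} (h : RepWith @IsOpenImmersion j) :
    RepWith @Etale j :=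
  repWith_mono h fun _ _ g (_ : IsOpenImmersion g) ↦ (inferInstance : Etale g)

theorem isEtaleMor_openImm {F G : Sp S} {j : F ⟶ G} (h : RepWith @IsOpenImmersion j) : IsEtaleMor j :=
  Lib.AlgSpDecent.DescendMor.isEtaleMor_of_repWith (repWith_etale_of_openImm h)

/-- An elementary distinguished square from a chart injective over the complement of the open. -/
theorem isElemDistSq_of {U W : Sp S} (hW : IsAlgSpace W) {j : U ⟶ W}
    (hj : RepWith @IsOpenImmersion j) {V : Over S} (f : (yon S).obj V ⟶ W) (hf : RepWith @Etale f)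
    (hcov : ∀ w, w ∈ Set.range (Points.map j) ∨ w ∈ Set.range (Points.map f))
    (hinj : ∀ (T : Over S) (x y : (yon S).obj T ⟶ (yon S).obj V), x ≫ f = y ≫ f →
      (∀ t, Points.ofPt (x ≫ f) t ∉ Set.range (Points.map j)) → x = y) :
    IsElemDistSq j f := by
  obtain ⟨T₀, i, -, hi⟩ := Lib.AlgSpDecent.RedInduced.exists_redInduced hW
    (T := (Set.range (Points.map j))ᶜ) (isOpenEmbedding_map hj).isOpen_range.isClosed_compl
  refine ⟨hj, Lib.AlgSpDecent.DescendMor.isEtaleMor_of_repWith hf, T₀, pullback i f, i,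
    pullback.fst i f, pullback.snd i f, hi, IsPullback.of_hasPullback i f, ?_⟩
  have hp : RepWith @Etale (pullback.fst i f) := repWith_baseChange (IsPullback.of_hasPullback i f).flip hf
  have hpts : Function.Surjective (Points.map (pullback.fst i f)) := fun t => by
    have ht : Points.map i t ∈ (Set.range (Points.map j))ᶜ := hi.2.1.subset ⟨t, rfl⟩
    obtain ⟨v, hv⟩ := (hcov (Points.map i t)).resolve_left ht
    obtain ⟨z, hz, -⟩ := exists_of_isPullback (IsPullback.of_hasPullback i f) t v hv.symm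
    exact ⟨z, hz⟩
  haveI := isLocallySurjective_of_etale hp (repWith_surjective_of_points hp.rep hpts)
  haveI : Mono (pullback.fst i f) := by
    refine mono_of_yon _ fun T a b (w : a ≫ pullback.fst i f = b ≫ pullback.fst i f) => pullback.hom_ext w ?_
    refine hinj T _ _ ?_ fun t => ?_
    · rw [Category.assoc, Category.assoc, ← pullback.condition, ← Category.assoc, w, Category.assoc]
    · show Points.ofPt ((a ≫ pullback.snd i f) ≫ f) t ∈ (Set.range (Points.map j))ᶜ
      rw [← hi.2.1, Category.assoc, ← pullback.condition, ← Category.assoc, ← Points.map_ofPt]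
      exact ⟨_, rfl⟩
  haveI : Epi (pullback.fst i f) := inferInstance
  exact isIso_of_mono_of_epi _

variable (X : Space S)

/-- An object of the site of spaces etale over `X`. -/
def obj (F : Space S) (g : F.obj ⟶ X.obj) (hg : IsEtaleMor g) : EtSpOver X :=
  ⟨Over.mk (Y := F) (ObjectProperty.homMk g : F ⟶ X), hg⟩

/-- A morphism of such objects. -/
def hom {F F' : Space S} {g : F.obj ⟶ X.obj} {hg : IsEtaleMor g} {g' : F'.obj ⟶ X.obj} {hg' : IsEtaleMor g'}
    (k : F.obj ⟶ F'.obj) (w : k ≫ g' = g) : obj X F g hg ⟶ obj X F' g' hg' :=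
  ObjectProperty.homMk (Over.homMk (ObjectProperty.homMk k : F ⟶ F') (ObjectProperty.hom_ext _ w))

/-- The space of a scheme. -/
noncomputable abbrev schSp (T : Over S) : Space S := (AlgSp.ofScheme S).obj T

/-- The hypotheses of the induction. -/
structure Data (B P : EtSpOver X → Prop) : Prop where
  qcqs : ∀ W, B W → AlgSp.IsQuasiCompactSp W.obj.left.obj ∧ AlgSp.IsQuasiSeparatedSp W.obj.left.obj
  opens : ∀ (W U : EtSpOver X) (j : U ⟶ W), B W → RepWith @IsOpenImmersion j.hom.left.hom →
      AlgSp.IsQuasiCompactSp U.obj.left.obj → B U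
  affine : ∀ (V : EtSpOver X) (T : Over S), IsAffine T.left →
      Nonempty ((yon S).obj T ≅ V.obj.left.obj) → B V ∧ P V
  square : ∀ (W U V UV : EtSpOver X) (j : U ⟶ W) (f : V ⟶ W) (p : UV ⟶ U) (q : UV ⟶ V),
      B W → AlgSp.IsQuasiCompactSp U.obj.left.obj →
      (∃ T : Over S, IsAffine T.left ∧ Nonempty ((yon S).obj T ≅ V.obj.left.obj)) →
      IsElemDistSq j.hom.left.hom f.hom.left.hom →
      IsPullback p.hom.left.hom q.hom.left.hom j.hom.left.hom f.hom.left.hom →
      P U → P V → P UV → P W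

variable {X} {B P : EtSpOver X → Prop}

theorem step (D : Data X B P) {F F' : Space S} (g : F'.obj ⟶ X.obj) (hg : IsEtaleMor g)
    (hB : B (obj X F' g hg)) (j : F.obj ⟶ F'.obj) (hj : RepWith @IsOpenImmersion j)
    (hc : AlgSp.IsQuasiCompactSp F.obj)
    (hP : ∀ h, P (obj X F (j ≫ g) h)) {V : Over S} [IsAffine V.left] (f : (yon S).obj V ⟶ F'.obj)
    (hf : RepWith @Etale f) (hsq : IsElemDistSq j f)
    (hA : ∀ (A : Over S) (a : A ⟶ V) (u : (yon S).obj A ⟶ F.obj), IsOpenImmersion a.left →
      IsPullback u ((yon S).map a) j f → ∀ h, P (obj X (schSp A) (((yon S).map a ≫ f) ≫ g) h)) :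
    P (obj X F' g hg) := by
  obtain ⟨A, a, u, sq, ha⟩ := repWith_exists hj f
  have hf' := Lib.AlgSpDecent.DescendMor.isEtaleMor_of_repWith hf
  have hV : IsEtaleMor (f ≫ g) := Lib.AlgSpTopInv.isEtaleMor_comp hf' hg
  have hjg : IsEtaleMor (j ≫ g) := Lib.AlgSpTopInv.isEtaleMor_comp (isEtaleMor_openImm hj) hg
  have hag : IsEtaleMor (((yon S).map a ≫ f) ≫ g) := Lib.AlgSpTopInv.isEtaleMor_comp
    (Lib.AlgSpTopInv.isEtaleMor_comp (Lib.AlgSpDecent.DescendMor.isEtaleMor_of_repWith
      (repWith_etale_of_openImm ((AlgSp.repWith_yon_map_iff _ a).2 ha))) hf') hg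
  exact D.square (obj X F' g hg) (obj X F (j ≫ g) hjg) (obj X (schSp V) (f ≫ g) hV)
    (obj X (schSp A) (((yon S).map a ≫ f) ≫ g) hag)
    (hom X j rfl) (hom X f rfl) (hom X u ((Category.assoc _ _ _).symm.trans (congrArg (· ≫ g) sq.w)))
    (hom X ((yon S).map a) (Category.assoc _ _ _).symm) hB hc ⟨V, ‹_›, ⟨Iso.refl _⟩⟩ hsq sq (hP hjg)
    (D.affine _ V ‹_› ⟨Iso.refl _⟩).2 (hA A a u ha sq hag)

/-- Separated schemes covered by finitely many affine opens. -/
theorem scheme_case (D : Data X B P) : ∀ (n : ℕ) (T : Over S) (_ : T.left.IsSeparated)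
    (g : (yon S).obj T ⟶ X.obj) (hg : IsEtaleMor g) (O : Fin n → T.left.Opens),
    (∀ i, IsAffineOpen (O i)) → (∀ x, ∃ i, x ∈ O i) → B (obj X (schSp T) g hg) →
      P (obj X (schSp T) g hg) := by
  intro n
  induction n with
  | zero =>
    intro T _ g hg O _ hcov _
    haveI : IsEmpty T.left := ⟨fun x => (hcov x).choose.elim0⟩
    exact (D.affine _ T isAffine_of_isEmpty ⟨Iso.refl _⟩).2
  | succ n ih =>
    intro T hT g hg O hO hcov hB
    let U : T.left.Opens := ⨆ i : Fin n, O i.castSucc
    let T' : Over S := Over.mk (U.ι ≫ T.hom)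
    let ι : T' ⟶ T := Over.homMk U.ι rfl
    let V : Over S := Over.mk ((O (Fin.last n)).ι ≫ T.hom)
    let κ : V ⟶ T := Over.homMk (O (Fin.last n)).ι rfl
    haveI : IsAffine V.left := hO (Fin.last n)
    haveI : IsOpenImmersion ι.left := inferInstanceAs (IsOpenImmersion U.ι)
    haveI : IsOpenImmersion κ.left := inferInstanceAs (IsOpenImmersion (O (Fin.last n)).ι)
    have hι : RepWith @IsOpenImmersion ((yon S).map ι) := (AlgSp.repWith_yon_map_iff _ ι).2 ‹_›
    have hκ : RepWith @IsOpenImmersion ((yon S).map κ) := (AlgSp.repWith_yon_map_iff _ κ).2 ‹_›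
    have hU : IsCompact (U : Set T.left) := by
      rw [TopologicalSpace.Opens.coe_iSup]
      exact isCompact_iUnion fun i => (hO i.castSucc).isCompact
    haveI : CompactSpace ↥T'.left := isCompact_iff_compactSpace.1 hU
    have hT' : AlgSp.IsQuasiCompactSp ((yon S).obj T') := Lib.AlgSpMor.QC.isQuasiCompactSp_yon
    haveI := hT
    haveI : T'.left.IsSeparated :=
      ⟨by rw [show terminal.from T'.left = U.ι ≫ terminal.from T.left from Subsingleton.elim _ _]; infer_instance⟩
    have hmem : ∀ x : T.left, x ∈ U ∨ x ∈ O (Fin.last n) := fun x => by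
      obtain ⟨i, hi⟩ := hcov x
      induction i using Fin.lastCases with
      | last => exact Or.inr hi
      | cast i => exact Or.inl (TopologicalSpace.Opens.mem_iSup.2 ⟨i, hi⟩)
    refine step D (F := schSp T') (F' := schSp T) g hg hB ((yon S).map ι) hι hT' (fun h => ?_) ((yon S).map κ)
      (repWith_etale_of_openImm hκ) (isElemDistSq_of (IsAlgSpace.yon_obj T) hι _ (repWith_etale_of_openImm hκ)
        (fun w => ?_) fun _ x y e _ => (haveI := mono_openImm hκ; (cancel_mono _).1 e)) ?_
    · refine ih T' inferInstance _ h (fun i => U.ι ⁻¹ᵁ O i.castSucc) (fun i => ?_) (fun x => ?_) ?_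
      · refine (hO i.castSucc).preimage_of_isOpenImmersion U.ι ?_
        rw [Scheme.Opens.opensRange_ι]
        exact le_iSup (fun i : Fin n => O i.castSucc) i
      · obtain ⟨i, hi⟩ := TopologicalSpace.Opens.mem_iSup.1 (show x.1 ∈ ⨆ i : Fin n, O i.castSucc from x.2)
        exact ⟨i, hi⟩
      · exact D.opens (obj X (schSp T) g hg) _ (hom X ((yon S).map ι) rfl) hB hι hT'
    · obtain ⟨x, rfl⟩ : ∃ x, Points.ofScheme T x = w := ⟨_, Points.ofScheme_toScheme T w⟩
      rcases hmem x with hx | hx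
      · exact Or.inl ⟨Points.ofScheme T' ⟨x, hx⟩, Points.map_yon_map_apply _ _⟩
      · exact Or.inr ⟨Points.ofScheme V ⟨x, hx⟩, Points.map_yon_map_apply _ _⟩
    intro A a u ha sq h
    haveI := ha
    obtain ⟨v, rfl⟩ := (yon S).map_surjective u
    have hw : v ≫ ι = a ≫ κ := (yon S).map_injective (((yon S).map_comp v ι).trans (sq.w.trans ((yon S).map_comp a κ).symm))
    haveI : Mono (a.left) := inferInstance
    have hsqS : IsPullback v a ι κ := IsPullback.of_map (yon S) hw sq
    haveI : IsOpenImmersion (a ≫ κ).left := inferInstanceAs (IsOpenImmersion (a.left ≫ κ.left))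
    have hr : ∀ x : A.left, (a ≫ κ).left x ∈ U := fun x => by
      rw [← hw]
      exact (v.left x).2
    haveI : A.left.IsSeparated :=
      ⟨by rw [show terminal.from A.left = (a ≫ κ).left ≫ terminal.from T.left from Subsingleton.elim _ _]; infer_instance⟩
    have hrange : ∀ x : T.left, x ∈ U → x ∈ O (Fin.last n) → x ∈ (a ≫ κ).left.opensRange := fun x h1 h2 => by
      have sq' := hsqS.map (Over.forget S)
      obtain ⟨z, -, hz⟩ := Scheme.Pullback.exists_preimage_pullback (f := ι.left) (g := κ.left)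
        (⟨x, h1⟩ : T'.left) (⟨x, h2⟩ : V.left) rfl
      refine ⟨sq'.isoPullback.inv z, ?_⟩
      show κ.left ((sq'.isoPullback.inv ≫ a.left) z) = x
      exact (congrArg (fun m => κ.left (m z)) sq'.isoPullback_inv_snd).trans (congrArg κ.left hz)
    refine ih A inferInstance _ h (fun i => (a ≫ κ).left ⁻¹ᵁ (O i.castSucc ⊓ O (Fin.last n))) (fun i => ?_)
      (fun x => ?_) ?_
    · refine ((hO i.castSucc).inf (hO (Fin.last n))).preimage_of_isOpenImmersion _ fun x hx => ?_
      exact hrange x (TopologicalSpace.Opens.mem_iSup.2 ⟨i, hx.1⟩) hx.2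
    · obtain ⟨i, hi⟩ := TopologicalSpace.Opens.mem_iSup.1 (hr x)
      exact ⟨i, hi, (a.left x).2⟩
    · haveI : CompactSpace ↥A.left := by
        have e : Set.range (a ≫ κ).left = (U : Set T.left) ∩ O (Fin.last n) := by
          apply Set.Subset.antisymm
          · rintro _ ⟨x, rfl⟩
            exact ⟨hr x, (a.left x).2⟩
          · rintro x ⟨h1, h2⟩
            exact hrange x h1 h2
        refine ⟨(Scheme.Hom.isOpenEmbedding (a ≫ κ).left).isEmbedding.isCompact_iff.2 ?_⟩
        rw [Set.image_univ, e, TopologicalSpace.Opens.coe_iSup, Set.iUnion_inter]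
        exact isCompact_iUnion fun i => ((hO i.castSucc).inf (hO (Fin.last n))).isCompact
      exact D.opens (obj X (schSp T) g hg) _ (hom X ((yon S).map (a ≫ κ)) (by rw [Functor.map_comp]; exact Category.assoc _ _ _)) hB
        ((AlgSp.repWith_yon_map_iff _ _).2 ‹_›) Lib.AlgSpMor.QC.isQuasiCompactSp_yon

/-- Quasi-compact opens of affine schemes. -/
theorem affine_open_case (D : Data X B P) {V A : Over S} [IsAffine V.left] (a : A ⟶ V) [IsOpenImmersion a.left]
    [CompactSpace ↥A.left] (g : (yon S).obj A ⟶ X.obj) (hg : IsEtaleMor g)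
    (g' : (yon S).obj V ⟶ X.obj) (hg' : IsEtaleMor g') (w : (yon S).map a ≫ g' = g) :
    P (obj X (schSp A) g hg) := by
  haveI : A.left.IsSeparated :=
    ⟨by rw [show terminal.from A.left = a.left ≫ terminal.from V.left from Subsingleton.elim _ _]; infer_instance⟩
  have hB : B (obj X (schSp A) g hg) :=
    D.opens (obj X (schSp V) g' hg') _ (hom X ((yon S).map a) w) (D.affine _ V ‹_› ⟨Iso.refl _⟩).1
      ((AlgSp.repWith_yon_map_iff _ a).2 ‹_›) Lib.AlgSpMor.QC.isQuasiCompactSp_yon
  let 𝒰 := A.left.affineCover.finiteSubcover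
  let e := Finite.equivFin 𝒰.I₀
  refine scheme_case D (Nat.card 𝒰.I₀) A inferInstance g hg (fun i => (𝒰.f (e.symm i)).opensRange) (fun i => ?_)
    (fun x => ?_) hB
  · haveI : IsAffine (𝒰.X (e.symm i)) := inferInstanceAs (IsAffine (A.left.affineCover.X _))
    exact isAffineOpen_opensRange _
  · obtain ⟨i, y, hy⟩ := 𝒰.exists_eq x
    exact ⟨e i, by rw [Equiv.symm_apply_apply]; exact ⟨y, hy⟩⟩

/-- The property holds for every subspace with the given points. -/
def Holds (P : EtSpOver X → Prop) {W : Space S} (w : W.obj ⟶ X.obj) (O : Set (Points W.obj)) : Prop :=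
  ∀ (F : Space S) (j : F.obj ⟶ W.obj), RepWith @IsOpenImmersion j → Set.range (Points.map j) = O →
    ∀ h, P (obj X F (j ≫ w) h)

theorem holds_empty (D : Data X B P) {W : Space S} (w : W.obj ⟶ X.obj) : Holds P w (∅ : Set (Points W.obj)) := by
  intro F j _ hr h
  obtain ⟨U, π, he, hs⟩ := F.property.atlas
  haveI : IsEmpty U.left := ⟨fun x => by
    have : Points.map j (Points.ofPt π x) ∈ (∅ : Set (Points W.obj)) := hr ▸ ⟨_, rfl⟩
    exact this⟩
  haveI := isLocallySurjective_of_etale he hs
  haveI : Epi π := inferInstance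
  haveI : Mono π := mono_of_yon π fun T x y _ => by
    obtain ⟨a, rfl⟩ := (yon S).map_surjective x
    obtain ⟨b, rfl⟩ := (yon S).map_surjective y
    haveI : IsEmpty T.left := ⟨fun t => IsEmpty.false (a.left t)⟩
    exact congrArg _ (Over.OverMorphism.ext (isInitialOfIsEmpty.hom_ext _ _))
  haveI : Balanced (Sp S) := inferInstance
  haveI : IsIso π := isIso_of_mono_of_epi π
  let eπ : (yon S).obj U ≅ F.obj := asIso π
  exact (D.affine _ U isAffine_of_isEmpty ⟨eπ⟩).2

theorem isCompact_range {F W : Sp S} (j : F ⟶ W) [CompactSpace (Points F)] :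
    IsCompact (Set.range (Points.map j)) := by
  rw [← Set.image_univ]
  exact isCompact_univ.image (Points.continuous_map j)

theorem isQuasiCompactSp_of_range {F W : Sp S} (hF : IsAlgSpace F) {j : F ⟶ W}
    (hj : RepWith @IsOpenImmersion j) (h : IsCompact (Set.range (Points.map j))) :
    AlgSp.IsQuasiCompactSp F :=
  (Lib.AlgSpMor.QC.isQuasiCompactSp_iff hF).2
    ⟨(isOpenEmbedding_map hj).isEmbedding.isCompact_iff.2 (by rwa [Set.image_univ])⟩

variable [QuasiSeparatedSpace ↥S]

theorem holds_union (D : Data X B P) {W : Space S} (w : W.obj ⟶ X.obj) (hw : IsEtaleMor w)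
    (hB : B (obj X W w hw)) {O : Set (Points W.obj)} (hO : IsOpen O) (hOc : IsCompact O)
    (hPO : Holds P w O) {V : Over S} [IsAffine V.left] (f : (yon S).obj V ⟶ W.obj) (hf : RepWith @Etale f)
    (hinj : ∀ (T : Over S) (x y : (yon S).obj T ⟶ (yon S).obj V), x ≫ f = y ≫ f →
      (∀ t, Points.ofPt (x ≫ f) t ∉ O) → x = y) :
    Holds P w (O ∪ Set.range (Points.map f)) := by
  intro F' j' hj' hr' h'
  obtain ⟨F₀, j₀, hF₀, hj₀, hr₀⟩ := exists_open_subspace W.property hO
  haveI := mono_openImm hj'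
  obtain ⟨j, hjj⟩ := (exists_lift_iff_range_subset hj' j₀).2 (by
    rw [hr', hr₀]; exact Set.subset_union_left)
  obtain ⟨f', hff⟩ := (exists_lift_iff_range_subset hj' f).2 (by
    rw [hr']; exact Set.subset_union_right)
  have hj : RepWith @IsOpenImmersion j := by
    obtain ⟨sq⟩ : Nonempty (IsPullback (𝟙 _) j j₀ j') :=
      ⟨IsPullback.of_isLimit' ⟨by rw [Category.id_comp, hjj]⟩ (PullbackCone.IsLimit.mk _ (fun s => s.fst)
        (fun s => Category.comp_id _)
        (fun s => (cancel_mono j').1 (by rw [Category.assoc, hjj]; exact s.condition))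
        (fun s m hm _ => (Category.comp_id m).symm.trans hm))⟩
    exact repWith_baseChange sq hj₀
  have hf' : RepWith @Etale f' := by
    obtain ⟨sq⟩ : Nonempty (IsPullback (𝟙 _) f' f j') :=
      ⟨IsPullback.of_isLimit' ⟨by rw [Category.id_comp, hff]⟩ (PullbackCone.IsLimit.mk _ (fun s => s.fst)
        (fun s => Category.comp_id _)
        (fun s => (cancel_mono j').1 (by rw [Category.assoc, hff]; exact s.condition))
        (fun s m hm _ => (Category.comp_id m).symm.trans hm))⟩
    exact repWith_baseChange sq hf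
  haveI : CompactSpace (Points ((yon S).obj V)) := Lib.AlgSpMor.QC.compactSpace_yon
  have hF'c : AlgSp.IsQuasiCompactSp F'.obj := isQuasiCompactSp_of_range F'.property hj'
    (hr' ▸ hOc.union (isCompact_range f))
  have hF₀c : AlgSp.IsQuasiCompactSp F₀ := isQuasiCompactSp_of_range hF₀ hj₀ (hr₀ ▸ hOc)
  have hBF : B (obj X F' (j' ≫ w) h') :=
    D.opens (obj X W w hw) _ (hom X j' rfl) hB hj' hF'c
  have hsq : IsElemDistSq j f' := by
    refine isElemDistSq_of F'.property hj f' hf' (fun z => ?_) fun T x y e hT => ?_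
    · have hz : Points.map j' z ∈ O ∪ Set.range (Points.map f) := hr' ▸ ⟨z, rfl⟩
      rcases hz with hz | ⟨v, hv⟩
      · obtain ⟨u, hu⟩ : Points.map j' z ∈ Set.range (Points.map j₀) := hr₀.symm ▸ hz
        exact Or.inl ⟨u, (injective_map_of_mono j') (by rw [← Points.map_comp, hjj, hu])⟩
      · exact Or.inr ⟨v, (injective_map_of_mono j') (by rw [← Points.map_comp, hff, hv])⟩
    · refine hinj T x y (by rw [← hff, reassoc_of% e]) fun t ht => hT t ?_
      rw [← hr₀] at ht
      obtain ⟨u, hu⟩ := ht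
      refine ⟨u, (injective_map_of_mono j') ?_⟩
      rw [← Points.map_comp, hjj, hu, Points.map_ofPt, Category.assoc, hff]
  refine step D (F := ⟨F₀, hF₀⟩) _ h' hBF j hj hF₀c (fun h => ?_) f' hf' hsq fun A a u ha sq h => ?_
  · have e : j ≫ j' ≫ w = j₀ ≫ w := by rw [← Category.assoc, hjj]
    have hP' := hPO ⟨F₀, hF₀⟩ j₀ hj₀ hr₀ (e ▸ h)
    simp only [e]
    exact hP'
  · haveI := ha
    haveI : CompactSpace ↥A.left := by
      obtain ⟨U, p, he, hs, hU⟩ := hF₀c
      obtain ⟨Q, q₁, q₂, sqQ⟩ := exists_isPullback_yon F'.property.diag (p ≫ j) f'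
      haveI := hU
      haveI : CompactSpace ↥Q.left :=
        Lib.AlgSpMor.DiagCharts.compactSpace_of_isQuasiSeparatedSp (D.qcqs _ hBF).2 sqQ
      obtain ⟨l, hl₁, hl₂⟩ := sq.exists_lift ((yon S).map q₁ ≫ p) ((yon S).map q₂)
        (by rw [Category.assoc]; exact sqQ.w)
      obtain ⟨l, rfl⟩ := (yon S).map_surjective l
      have hsurj : Function.Surjective l.left := fun x => by
        obtain ⟨y, hy⟩ := surjective_ofPt hs (Points.map u (Points.ofScheme A x))
        obtain ⟨z, hz₁, hz₂⟩ := exists_of_isPullback sqQ (Points.ofScheme U y)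
          (Points.map ((yon S).map a) (Points.ofScheme A x)) (by
            rw [← Points.ofPt_eq_map_ofScheme, ← Points.map_ofPt, hy, ← Points.map_comp, sq.w, Points.map_comp])
        obtain ⟨z, rfl⟩ : ∃ z', Points.ofScheme Q z' = z := ⟨_, Points.ofScheme_toScheme Q z⟩
        refine ⟨z, a.left.isOpenEmbedding.injective ?_⟩
        erw [Points.map_yon_map_apply, Points.map_yon_map_apply] at hz₂
        have hl₂' : l ≫ a = q₂ := (yon S).map_injective (by rw [Functor.map_comp, hl₂])
        rw [← hl₂'] at hz₂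
        exact (Points.schemeHomeo _).injective hz₂
      exact hsurj.compactSpace l.left.continuous
    refine affine_open_case D a _ h (f' ≫ j' ≫ w) ?_ (Category.assoc _ _ _).symm
    exact Lib.AlgSpTopInv.isEtaleMor_comp (Lib.AlgSpDecent.DescendMor.isEtaleMor_of_repWith hf') h'

omit [QuasiSeparatedSpace ↥S] in
theorem holds_of_iso {W : Space S} (w : W.obj ⟶ X.obj) (hw : IsEtaleMor w)
    (hP : Holds P w Set.univ) : P (obj X W w hw) := by
  have h := hP W (𝟙 _) (repWith_of_isIso _ _) (Set.range_eq_univ.2 fun x => ⟨x, Points.map_id _⟩)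
  simp only [Category.id_comp] at h
  exact h hw

end Groth.Agent.H8.EDSInduction
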