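import Groth.Agent.H8.EDSInduction
import Groth.Agent.S10419

/-!
# The induction principle for quasi-compact quasi-separated spaces etale over a space
-/

set_option autoImplicit false
set_option linter.style.haveILetI false

universe u

open CategoryTheory CategoryTheory.Limits AlgebraicGeometry

namespace Groth.Agent.H8.EDSMain

open AlgSp (Sp yon RepWith IsAlgSpace Points Space IsEtaleMor IsElemDistSq EtSpOver)
open Groth.Agent.Lib.AlgSpace
open EDSInduction

variable {S : Scheme.{u}}

theorem repWith_of_comp_mono {P : MorphismProperty Scheme.{u}} {A B C : Sp S} (f : A ⟶ B) (g : B ⟶ C)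
    [Mono g] {h : A ⟶ C} (e : f ≫ g = h) (hh : RepWith P h) [P.IsStableUnderBaseChange] : RepWith P f := by
  obtain ⟨sq⟩ : Nonempty (IsPullback (𝟙 _) f h g) :=
    ⟨IsPullback.of_isLimit' ⟨by rw [Category.id_comp, e]⟩ (PullbackCone.IsLimit.mk _ (fun s => s.fst)
      (fun s => Category.comp_id _)
      (fun s => (cancel_mono g).1 (by rw [Category.assoc, e]; exact s.condition))
      (fun s m hm _ => (Category.comp_id m).symm.trans hm))⟩
  exact repWith_baseChange sq hh

variable [QuasiSeparatedSpace ↥S] {X : Space S} {B P : EtSpOver X → Prop}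

/-- Every member has the property. -/
theorem main (D : Data X B P) (W : EtSpOver X) (hW : B W) : P W := by
  let Y : Space S := W.obj.left
  let w : Y.obj ⟶ X.obj := W.obj.hom.hom
  have hB : B (obj X Y w W.property) := hW
  show P (obj X Y w W.property)
  obtain ⟨hqc, hqs⟩ := D.qcqs _ hW
  obtain ⟨n, Uo, j, k, T, i, hj, hk, hj1, hemp, hT, hV⟩ := Groth.Agent.S10419.result Y hqc hqs
  haveI := fun p => mono_openImm (hj p)
  let O : ℕ → Set (Points Y.obj) := fun p => Set.range (Points.map (j p).hom)
  have hk' : ∀ p, (k p).hom ≫ (j p).hom = (j (p + 1)).hom := fun p => congrArg (fun m => m.hom) (hk p)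
  suffices key : ∀ d p, 1 ≤ p → p + d = n + 1 → IsCompact (O p) ∧ Holds P w (O p) by
    have h1 : O 1 = Set.univ := by
      haveI : IsIso (j 1).hom := inferInstanceAs (IsIso ((ObjectProperty.ι (AlgSp.IsAlgSpace (S := S))).map (j 1)))
      exact Set.range_eq_univ.2 fun x => ⟨Points.map (inv (j 1).hom) x, by
        rw [← Points.map_comp, IsIso.inv_hom_id, Points.map_id]⟩
    exact holds_of_iso w W.property (h1 ▸ (key n 1 le_rfl (by omega)).2)
  intro d
  induction d with
  | zero =>
    intro p _ e
    obtain rfl : p = n + 1 := by omega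
    have h0 : O (n + 1) = ∅ := Set.range_eq_empty _
    rw [h0]
    exact ⟨isCompact_empty, holds_empty D w⟩
  | succ d ih =>
    intro p hp e
    obtain ⟨hc, hH⟩ := ih (p + 1) (by omega) (by omega)
    obtain ⟨V, f, hVs, hVc, hf, hfs, hiso⟩ := hV p hp
    haveI := hVc
    let 𝒰 := V.left.affineCover.finiteSubcover
    let e' := Finite.equivFin 𝒰.I₀
    let Vi : Fin (Nat.card 𝒰.I₀) → Over S := fun l => Over.mk (𝒰.f (e'.symm l) ≫ V.hom)
    let κ : ∀ l, Vi l ⟶ V := fun l => Over.homMk (𝒰.f (e'.symm l)) rfl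
    haveI hκi : ∀ l, IsOpenImmersion (κ l).left := fun l => inferInstanceAs (IsOpenImmersion (𝒰.f (e'.symm l)))
    haveI : ∀ l, IsAffine (Vi l).left := fun l => inferInstanceAs (IsAffine (V.left.affineCover.X _))
    let fl : ∀ l, (yon S).obj (Vi l) ⟶ Y.obj := fun l => (yon S).map (κ l) ≫ f ≫ (j p).hom
    have hfl : ∀ l, RepWith @Etale (fl l) := fun l => by
      haveI : MorphismProperty.IsStableUnderComposition (@Etale : MorphismProperty Scheme.{u}) :=
        ⟨fun f g (_ : Etale f) (_ : Etale g) ↦ inferInstanceAs (Etale (f ≫ g))⟩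
      exact repWith_comp (repWith_etale_of_openImm ((AlgSp.repWith_yon_map_iff _ (κ l)).2 (hκi l)))
        (repWith_comp hf (repWith_etale_of_openImm (hj p)))
    have hkO : RepWith @IsOpenImmersion (k p).hom :=
      repWith_of_comp_mono (k p).hom (j p).hom (hk' p) (hj (p + 1))
    have hsq : IsElemDistSq (k p).hom f := ⟨hkO, Lib.AlgSpDecent.DescendMor.isEtaleMor_of_repWith hf,
      (T p).obj, pullback (i p).hom f, (i p).hom, pullback.fst _ _, pullback.snd _ _, hT p,
      IsPullback.of_hasPullback _ _, hiso _ _ _ (IsPullback.of_hasPullback _ _)⟩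
    let C : ℕ → Set (Points Y.obj) := fun m =>
      O (p + 1) ∪ ⋃ l : {l : Fin (Nat.card 𝒰.I₀) // (l : ℕ) < m}, Set.range (Points.map (fl l.1))
    have hC : ∀ m, m ≤ Nat.card 𝒰.I₀ → IsOpen (C m) ∧ IsCompact (C m) ∧ Holds P w (C m) := by
      intro m
      induction m with
      | zero =>
        intro _
        have h0 : C 0 = O (p + 1) := by
          haveI : IsEmpty {l : Fin (Nat.card 𝒰.I₀) // (l : ℕ) < 0} := ⟨fun l => absurd l.2 (Nat.not_lt_zero _)⟩
          simp only [C, Set.iUnion_of_empty, Set.union_empty]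
        rw [h0]
        exact ⟨(isOpenEmbedding_map (hj (p + 1))).isOpen_range, hc, hH⟩
      | succ m ihm =>
        intro hm
        obtain ⟨ho, hcm, hHm⟩ := ihm (by omega)
        let l₀ : Fin (Nat.card 𝒰.I₀) := ⟨m, by omega⟩
        have hs : C (m + 1) = C m ∪ Set.range (Points.map (fl l₀)) := by
          ext x
          simp only [C, Set.mem_union, Set.mem_iUnion]
          constructor
          · rintro (hx | ⟨⟨l, hl⟩, hx⟩)
            · exact Or.inl (Or.inl hx)
            · rcases Nat.lt_succ_iff_lt_or_eq.1 hl with h | h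
              · exact Or.inl (Or.inr ⟨⟨l, h⟩, hx⟩)
              · obtain rfl : l = l₀ := Fin.ext h
                exact Or.inr hx
          · rintro ((hx | ⟨⟨l, hl⟩, hx⟩) | hx)
            · exact Or.inl hx
            · exact Or.inr ⟨⟨l, by omega⟩, hx⟩
            · exact Or.inr ⟨⟨l₀, Nat.lt_succ_self m⟩, hx⟩
        rw [hs]
        haveI : CompactSpace (Points ((yon S).obj (Vi l₀))) := Lib.AlgSpMor.QC.compactSpace_yon
        refine ⟨ho.union ?_, hcm.union (isCompact_range (fl l₀)),
          holds_union D w W.property hB ho hcm hHm (fl l₀) (hfl l₀) fun T' x y hxy ht => ?_⟩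
        · exact (Lib.AlgSpace.isOpenMap_map (repWith_mono (hfl l₀) fun _ _ g (_ : Etale g) =>
            (inferInstance : UniversallyOpen g))).isOpen_range
        have hxy' : (x ≫ (yon S).map (κ l₀)) ≫ f = (y ≫ (yon S).map (κ l₀)) ≫ f :=
          (cancel_mono (j p).hom).1 (by simpa only [fl, Category.assoc] using hxy)
        obtain ⟨Z, gz, u, hcov, htrue, hu⟩ := Lib.AlgSpEDS.exists_cover_of_eq (IsAlgSpace.yon_obj V)
          (Uo p).property hsq _ _ hxy'
        haveI : IsEmpty ↥(Z false).left := ⟨fun z => ht ((gz false).left z) (Or.inl ?_)⟩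
        · haveI : Mono ((yon S).map (κ l₀)) := mono_openImm ((AlgSp.repWith_yon_map_iff _ (κ l₀)).2 (hκi l₀))
          refine (cancel_mono ((yon S).map (κ l₀))).1 (hom_ext_of_family Z gz hcov ?_)
          rintro (_ | _)
          · exact (subsingleton_yon_hom_of_isEmpty _ _).elim _ _
          · exact htrue
        refine ⟨Points.ofPt u z, ?_⟩
        rw [← hk' p, Points.map_comp, Points.map_ofPt, Points.map_ofPt, hu, ← ofPt_yon_map_comp]
        simp only [fl, Category.assoc]
    have hall : C (Nat.card 𝒰.I₀) = O p := by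
      apply Set.Subset.antisymm
      · rintro x (⟨z, rfl⟩ | hx)
        · exact ⟨Points.map (k p).hom z, by rw [← Points.map_comp, hk']⟩
        · obtain ⟨l, z, rfl⟩ := Set.mem_iUnion.1 hx
          exact ⟨Points.map ((yon S).map (κ l.1) ≫ f) z, by
            rw [← Points.map_comp]; simp only [fl, Category.assoc]⟩
      · rintro _ ⟨z, rfl⟩
        obtain ⟨v, rfl⟩ := surjective_ofPt hfs z
        obtain ⟨l, y, hy⟩ := 𝒰.exists_eq v
        refine Or.inr (Set.mem_iUnion.2 ⟨⟨e' l, (e' l).2⟩, ?_⟩)
        obtain ⟨l', rfl⟩ := e'.symm.surjective l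
        rw [Equiv.apply_symm_apply]
        refine ⟨Points.ofScheme (Vi l') y, ?_⟩
        rw [← Points.ofPt_eq_map_ofScheme, Points.map_ofPt, ofPt_yon_map_comp]
        exact congrArg (Points.ofPt (f ≫ (j p).hom)) hy
    obtain ⟨-, h1, h2⟩ := hC _ le_rfl
    rw [hall] at h1 h2
    exact ⟨h1, h2⟩

end Groth.Agent.H8.EDSMain
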