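import Groth.Agent.Lib.AlgSpDecent.IntegralGsect
import Groth.Agent.Lib.AlgSpMor.QC
import Groth.Agent.Lib.EtMod.Basic
import Groth.Prelude.Def_AlgSp4
import Mathlib.Algebra.Polynomial.Reverse

/-!
# Global functions on universally closed spaces over an affine scheme are integral
-/

universe u

set_option backward.isDefEq.respectTransparency false
set_option backward.isDefEq.respectTransparency.types false
set_option linter.style.haveILetI false

open CategoryTheory CategoryTheory.Limits AlgebraicGeometry Opposite Polynomial AlgSp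
open Groth.Agent.Lib.AlgSpace

namespace Groth.Agent.H8.GsectIntegral

open Lib.AlgSpDecent.IntegralGsect (res res_map)

/-- A polynomial of constant term one killing the inverse of an element gives a monic one killing the element. -/
theorem exists_monic_of_eval_inv {A R : Type*} [CommRing A] [CommRing R] (i : A →+* R) (s : R)
    (h : A[X]) (h0 : h.coeff 0 = 1)
    (hev : h.eval₂ ((algebraMap R (Localization.Away s)).comp i) (IsLocalization.Away.invSelf s) = 0) :
    ∃ p : A[X], p.Monic ∧ p.eval₂ i s = 0 := by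
  rcases subsingleton_or_nontrivial A with hA | hA
  · exact ⟨1, monic_one, by
      rw [Subsingleton.elim (1 : A[X]) 0, eval₂_zero]⟩
  let R' := Localization.Away s
  let φ : R →+* R' := algebraMap R R'
  let σ : R' := φ s
  let τ : R' := IsLocalization.Away.invSelf s
  haveI : Invertible τ := ⟨σ, IsLocalization.Away.mul_invSelf s,
    (mul_comm τ σ).trans (IsLocalization.Away.mul_invSelf s)⟩
  have hσ : ⅟τ = σ := invOf_eq_right_inv ((mul_comm τ σ).trans (IsLocalization.Away.mul_invSelf s))
  have hrev : φ (h.reverse.eval₂ i s) = 0 := by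
    have h1 : h.reverse.eval₂ (φ.comp i) σ * τ ^ h.natDegree = 0 :=
      hσ ▸ (eval₂_reverse_mul_pow (φ.comp i) τ h).trans hev
    rw [hom_eval₂]
    exact ((isUnit_of_invertible τ).pow _).mul_left_eq_zero.1 h1
  obtain ⟨⟨_, k, rfl⟩, hk⟩ := (IsLocalization.map_eq_zero_iff (Submonoid.powers s) R' _).1 hrev
  have ht : h.trailingCoeff = 1 := by
    rw [trailingCoeff, natTrailingDegree_eq_zero.2 (Or.inr (by rw [h0]; exact one_ne_zero)), h0]
  refine ⟨X ^ k * h.reverse, (monic_X_pow k).mul ?_, ?_⟩
  · rw [Monic, reverse_leadingCoeff, ht]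
  · rw [eval₂_mul, eval₂_X_pow]
    exact hk

variable {S : Scheme.{u}}

theorem exists_monic {V : Over S} [IsAffine V.left] {X : Sp S} (hX : IsAlgSpace X)
    (f : X ⟶ (yon S).obj V) (hqc : IsQuasiCompactMor f) (huc : IsUnivClosedMor f)
    (s : ↥(gsectEt (OEt X))) :
    ∃ p : Γ(V.left, ⊤)[X], p.Monic ∧
      ∀ E : EtOver X, p.eval₂ ((yon S).preimage (E.obj.hom ≫ f)).left.appTop.hom (res E s) = 0 := by
  haveI : CompactSpace (Points X) := Lib.AlgSpMor.QC.compactSpace_points
    (hqc (IsAlgSpace.yon_obj V) Lib.AlgSpMor.QC.isQuasiCompactSp_yon (𝟙 _) (𝟙 X) f IsPullback.of_id_fst)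
  obtain ⟨U, pX, hU, he, hs⟩ := Lib.AlgSpMor.QC.exists_affine_atlas hX
  haveI := hU
  let EU : EtOver X := EtOver.mk pX he
  let σU : Γ(U.left, ⊤) := res EU s
  let u : U ⟶ V := (yon S).preimage (pX ≫ f)
  have hu : (yon S).map u = pX ≫ f := Functor.map_preimage _ _
  -- the affine line over `V`
  let A : CommRingCat.{u} := Γ(V.left, ⊤)
  let Tl : Scheme.{u} := Spec (CommRingCat.of (Polynomial A))
  let πl : Tl ⟶ V.left := Spec.map (CommRingCat.ofHom Polynomial.C) ≫ V.left.isoSpec.inv
  let T : Over S := Over.mk (πl ≫ V.hom)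
  let π : T ⟶ V := Over.homMk πl rfl
  let P := pullback f ((yon S).map π)
  let U' : Over S := pullback u π
  let a : U' ⟶ U := pullback.fst u π
  let b : U' ⟶ T := pullback.snd u π
  have sqU : IsPullback ((yon S).map a) ((yon S).map b) (pX ≫ f) ((yon S).map π) := by
    have := (IsPullback.of_hasPullback u π).map (yon S)
    rwa [hu] at this
  have sqP := IsPullback.of_hasPullback f ((yon S).map π)
  let q : (yon S).obj U' ⟶ P := sqP.lift ((yon S).map a ≫ pX) ((yon S).map b)
    (by rw [Category.assoc]; exact sqU.w)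
  have hq1 : q ≫ pullback.fst _ _ = (yon S).map a ≫ pX := sqP.lift_fst _ _ _
  have hq2 : q ≫ pullback.snd _ _ = (yon S).map b := sqP.lift_snd _ _ _
  have sqq : IsPullback ((yon S).map a) q pX (pullback.fst f ((yon S).map π)) :=
    IsPullback.of_bot (by rwa [hq2]) hq1.symm sqP
  have hqE : RepWith @Etale q := (repWith_isStableUnderBaseChange (S := S) @Etale).of_isPullback sqq he
  have hqS : RepWith @Surjective q :=
    (repWith_isStableUnderBaseChange (S := S) @Surjective).of_isPullback sqq hs
  -- the hyperbola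
  let τT : Γ(Tl, ⊤) := (Scheme.ΓSpecIso (CommRingCat.of (Polynomial A))).inv Polynomial.X
  let σ : Γ(U'.left, ⊤) := a.left.appTop.hom σU
  let τ : Γ(U'.left, ⊤) := b.left.appTop.hom τT
  let Z : Set U'.left := ((U'.left.basicOpen (σ * τ - 1) : Set U'.left))ᶜ
  have hsat : Points.ofPt q ⁻¹' (Points.ofPt q '' Z) = Z := by
    refine Set.Subset.antisymm ?_ (Set.subset_preimage_image _ _)
    rintro z' ⟨z, hz, e⟩
    obtain ⟨W, p, p', w, rfl, rfl, h⟩ := (ofPt_eq_ofPt_iff q q z z').1 e
    have hb : p ≫ b = p' ≫ b := (yon S).map_injective (by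
      rw [Functor.map_comp, Functor.map_comp, ← hq2, ← Category.assoc, ← Category.assoc, h])
    have ha : (yon S).map (p ≫ a) ≫ pX = (yon S).map (p' ≫ a) ≫ pX := by
      rw [Functor.map_comp, Functor.map_comp, Category.assoc, Category.assoc, ← hq1, ← Category.assoc,
        ← Category.assoc, h]
    obtain ⟨R, r, r', sqR⟩ := exists_isPullback_yon hX.diag pX pX
    let ER : EtOver X := EtOver.mk ((yon S).map r ≫ pX)
      ((repWith_isMultiplicative (S := S) @Etale).comp_mem _ _
        ((repWith_isStableUnderBaseChange (S := S) @Etale).of_isPullback sqR.flip he) he)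
    have hr : r.left.appTop.hom σU = r'.left.appTop.hom σU :=
      (res_map (E := ER) (E' := EU) (EtOver.homMk r rfl) s).trans
        (res_map (E := ER) (E' := EU) (EtOver.homMk r' sqR.w.symm) s).symm
    let l : W ⟶ R := (yon S).preimage (sqR.lift _ _ ha)
    have hl : l ≫ r = p ≫ a := (yon S).map_injective (by simp [l])
    have hl' : l ≫ r' = p' ≫ a := (yon S).map_injective (by simp [l])
    have e1 : p.left.appTop.hom σ = p'.left.appTop.hom σ := by
      have h1 : (p ≫ a).left.appTop.hom σU = (p' ≫ a).left.appTop.hom σU := by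
        rw [← hl, ← hl', Over.comp_left, Over.comp_left, Scheme.Hom.comp_appTop, Scheme.Hom.comp_appTop,
          CommRingCat.comp_apply, CommRingCat.comp_apply, hr]
      exact h1
    have e2 : p.left.appTop.hom τ = p'.left.appTop.hom τ := by
      have h1 : (p ≫ b).left.appTop.hom τT = (p' ≫ b).left.appTop.hom τT := by rw [hb]
      exact h1
    intro hz'
    refine hz ?_
    change w ∈ p.left ⁻¹ᵁ U'.left.basicOpen (σ * τ - 1)
    rw [Scheme.preimage_basicOpen_top, map_sub, map_mul, map_one, e1, e2, ← map_mul,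
      ← map_one p'.left.appTop.hom, ← map_sub, ← Scheme.preimage_basicOpen_top]
    exact hz'
  have hZ : IsClosed Z := (U'.left.basicOpen (σ * τ - 1)).2.isClosed_compl
  have hC : IsClosed (Points.ofPt q '' Z) := by
    rw [← isOpen_compl_iff]
    refine ((isOpenMap_ofPt hqE).isQuotientMap (Points.continuous_ofPt q)
      (surjective_ofPt hqS)).isOpen_preimage.1 ?_
    rw [Set.preimage_compl, hsat]
    exact hZ.isOpen_compl
  have hcl : IsClosedMap (Points.map (pullback.snd f ((yon S).map π))) :=
    huc (IsAlgSpace.yon_obj T) ((yon S).map π) (pullback.fst _ _) (pullback.snd _ _) sqP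
  -- its image
  let D : Set (PrimeSpectrum (Polynomial A)) := b.left '' Z
  have hD : IsClosed D := by
    have h1 : Points.map (pullback.snd f ((yon S).map π)) '' (Points.ofPt q '' Z) =
        Points.ofScheme T '' D := by
      rw [Set.image_image, Set.image_image]
      refine Set.image_congr fun z _ => ?_
      rw [Points.map_ofPt, hq2]
      change Points.ofPt ((yon S).map b) z = Points.ofPt (𝟙 _) (b.left z)
      rw [← ofPt_yon_map_comp b (𝟙 _) z, Category.comp_id]
    have h2 : IsClosed (Points.ofScheme T '' D) := h1 ▸ hcl _ hC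
    exact (Points.schemeHomeo T).isClosed_image.1 h2
  obtain ⟨J, hJ⟩ := (PrimeSpectrum.isClosed_iff_zeroLocus_ideal D).1 hD
  have hX0 : PrimeSpectrum.zeroLocus ((J ⊔ Ideal.span {Polynomial.X} : Ideal (Polynomial A)) : Set (Polynomial A)) = ∅ := by
    rw [PrimeSpectrum.zeroLocus_sup, ← hJ, PrimeSpectrum.zeroLocus_span]
    refine Set.eq_empty_of_forall_notMem fun y hy => ?_
    obtain ⟨⟨z, hz, rfl⟩, hy⟩ := hy
    have h1 : z ∈ U'.left.basicOpen (σ * τ) := by
      have h2 : z ∈ U'.left.basicOpen (1 : Γ(U'.left, ⊤)) := by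
        rw [Scheme.basicOpen_of_isUnit _ isUnit_one]; trivial
      rw [Scheme.mem_basicOpen_top] at h2 ⊢
      rw [show (1 : Γ(U'.left, ⊤)) = σ * τ + -(σ * τ - 1) by abel, map_add] at h2
      rcases IsLocalRing.isUnit_or_isUnit_of_isUnit_add h2 with h3 | h3
      · exact h3
      · rw [map_neg, IsUnit.neg_iff] at h3
        exact absurd ((Scheme.mem_basicOpen_top U'.left (σ * τ - 1) z).2 h3) hz
    rw [Scheme.basicOpen_mul] at h1
    have h3 : b.left z ∈ Tl.basicOpen τT := (Scheme.preimage_basicOpen_top b.left τT).ge h1.2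
    rw [AlgebraicGeometry.basicOpen_eq_of_affine] at h3
    exact h3 (Set.singleton_subset_iff.1 hy)
  obtain ⟨g, hg, c, hc, hgc⟩ := Submodule.mem_sup.1
    ((Ideal.eq_top_iff_one _).1 (PrimeSpectrum.zeroLocus_empty_iff_eq_top.1 hX0))
  obtain ⟨c', rfl⟩ := Ideal.mem_span_singleton.1 hc
  have hg0 : g.coeff 0 = 1 := by
    have := congrArg (fun z => Polynomial.coeff z 0) hgc
    simpa [Polynomial.mul_coeff_zero] using this
  -- the chart where the function is invertible
  let R : CommRingCat.{u} := Γ(U.left, ⊤)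
  let R' : CommRingCat.{u} := CommRingCat.of (Localization.Away σU)
  let iA : A →+* R := u.left.appTop.hom
  let φ : Polynomial A →+* R' :=
    Polynomial.eval₂RingHom ((algebraMap R R').comp iA) (IsLocalization.Away.invSelf σU)
  let jl : Spec R' ⟶ U.left := Spec.map (CommRingCat.ofHom (algebraMap R R')) ≫ U.left.isoSpec.inv
  let L : Over S := Over.mk (jl ≫ U.hom)
  let j : L ⟶ U := Over.homMk jl rfl
  have hkey : Spec.map (CommRingCat.ofHom φ) ≫ πl = jl ≫ u.left := by
    change Spec.map (CommRingCat.ofHom φ) ≫ Spec.map (CommRingCat.ofHom Polynomial.C) ≫ V.left.isoSpec.inv =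
      (Spec.map (CommRingCat.ofHom (algebraMap R R')) ≫ U.left.isoSpec.inv) ≫ u.left
    rw [← Category.assoc, ← Spec.map_comp, Category.assoc, ← Scheme.isoSpec_inv_naturality u.left,
      ← Category.assoc, ← Spec.map_comp]
    refine congrArg (fun m => Spec.map m ≫ V.left.isoSpec.inv) ?_
    ext x
    exact Polynomial.eval₂_C _ _
  let k : L ⟶ T := Over.homMk (Spec.map (CommRingCat.ofHom φ)) (by
    change Spec.map (CommRingCat.ofHom φ) ≫ πl ≫ V.hom = jl ≫ U.hom
    rw [← Category.assoc, hkey, Category.assoc, Over.w u])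
  let i : L ⟶ U' := pullback.lift j k (Over.OverMorphism.ext hkey.symm)
  have hiZ : ∀ w, i.left w ∈ Z := by
    intro w hw
    change w ∈ i.left ⁻¹ᵁ U'.left.basicOpen (σ * τ - 1) at hw
    rw [Scheme.preimage_basicOpen_top, map_sub, map_mul, map_one] at hw
    have e1 : i.left.appTop.hom σ = (Scheme.ΓSpecIso R').inv (algebraMap R R' σU) := by
      change (i ≫ a).left.appTop.hom σU = _
      rw [pullback.lift_fst]
      change (Spec.map _ ≫ U.left.isoSpec.inv).appTop.hom σU = _
      have hiso : U.left.isoSpec.inv.appTop = (Scheme.ΓSpecIso Γ(U.left, ⊤)).inv := by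
        rw [← Iso.comp_hom_eq_id, ← Scheme.toSpecΓ_appTop, ← Scheme.Hom.comp_appTop]
        exact congrArg Scheme.Hom.appTop U.left.isoSpec.hom_inv_id
      rw [Scheme.Hom.comp_appTop, hiso, ← Scheme.ΓSpecIso_inv_naturality]
      rfl
    have e2 : i.left.appTop.hom τ = (Scheme.ΓSpecIso R').inv (IsLocalization.Away.invSelf σU) := by
      change (i ≫ b).left.appTop.hom τT = _
      rw [pullback.lift_snd]
      change (Spec.map (CommRingCat.ofHom φ)).appTop.hom _ = _
      rw [← CommRingCat.comp_apply, ← Scheme.ΓSpecIso_inv_naturality, CommRingCat.comp_apply]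
      exact congrArg _ (Polynomial.eval₂_X _ _)
    have e3 : (Scheme.ΓSpecIso R').inv.hom (algebraMap R R' σU) *
        (Scheme.ΓSpecIso R').inv.hom (IsLocalization.Away.invSelf σU) = 1 :=
      (map_mul (Scheme.ΓSpecIso R').inv.hom _ _).symm.trans
        ((congrArg _ (IsLocalization.Away.mul_invSelf σU)).trans (map_one _))
    rw [e1, e2] at hw
    erw [e3, sub_self, Scheme.basicOpen_zero] at hw
    exact hw
  have hnil : IsNilpotent (φ g) := by
    rw [nilpotent_iff_mem_prime]
    intro Q hQ
    have hmem : (Spec.map (CommRingCat.ofHom φ)) ⟨Q, hQ⟩ ∈ D :=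
      ⟨i.left ⟨Q, hQ⟩, hiZ _, by
        rw [← Scheme.Hom.comp_apply, ← Over.comp_left, pullback.lift_snd]
        rfl⟩
    rw [hJ] at hmem
    exact hmem hg
  obtain ⟨N, hN⟩ := hnil
  obtain ⟨p, hp, hpU⟩ := exists_monic_of_eval_inv iA σU (g ^ N) (by
    rw [Polynomial.coeff_zero_eq_eval_zero, eval_pow, ← Polynomial.coeff_zero_eq_eval_zero, hg0, one_pow])
    (by
      rw [← hN, ← map_pow]
      rfl)
  refine ⟨p, hp, fun E => ?_⟩
  let eva : ∀ E : EtOver X, Γ(E.obj.left.left, ⊤) := fun E =>
    p.eval₂ ((yon S).preimage (E.obj.hom ≫ f)).left.appTop.hom (res E s)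
  have heva : ∀ {E E' : EtOver X} (m : E ⟶ E'), m.hom.left.left.appTop.hom (eva E') = eva E := by
    intro E E' m
    have hm : m.hom.left ≫ (yon S).preimage (E'.obj.hom ≫ f) = (yon S).preimage (E.obj.hom ≫ f) := by
      refine (yon S).map_injective ?_
      rw [Functor.map_comp, Functor.map_preimage, Functor.map_preimage, ← Category.assoc, EtOver.w m]
    change m.hom.left.left.appTop.hom (p.eval₂ _ _) = _
    rw [Polynomial.hom_eval₂, res_map m s]
    refine congrArg (fun (h : Γ(V.left, ⊤) →+* _) => p.eval₂ h (res E s)) ?_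
    rw [← hm]
    rfl
  have hU0 : eva EU = 0 := hpU
  have h0 : (ULift.up (eva E) : ((unitModEt X).val.obj (op E) : Type (u + 1))) =
      (ULift.up 0 : ((unitModEt X).val.obj (op E) : Type (u + 1))) := by
    refine Lib.EtMod.eq_of_cover (M := unitModEt X) (fun _ : PUnit.{1} => EtOver.prodObj E EU)
      (fun _ => EtOver.prodFst E EU) (fun x => ⟨⟨⟩, ?_⟩) fun _ => ?_
    · obtain ⟨u', hu'⟩ := surjective_ofPt hs (Points.ofPt E.obj.hom x)
      have sq := EU.property.1.isPullback E.obj.hom
      obtain ⟨v, hv, -⟩ := (ofPt_eq_ofPt_iff_of_isPullback (p := EU.property.1.snd E.obj.hom)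
        (q := EU.property.1.fst' E.obj.hom) (by
          rw [← Functor.relativelyRepresentable.map_fst'] at sq; exact sq.flip) x u').1 hu'.symm
      exact ⟨v, hv⟩
    · refine ULift.ext _ _ ?_
      change (EtOver.prodFst E EU).hom.left.left.appTop.hom (eva E) =
        (EtOver.prodFst E EU).hom.left.left.appTop.hom 0
      rw [map_zero, heva, ← heva (EtOver.prodSnd E EU), hU0, map_zero]
  exact congrArg ULift.down h0

end Groth.Agent.H8.GsectIntegral
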