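import Groth.Agent.H8.MVSheaf
import Groth.Agent.Lib.EtMod.SubSheaf

/-!
# Short exactness of the Mayer–Vietoris sequence of direct images
-/

set_option autoImplicit false
set_option backward.isDefEq.respectTransparency false
set_option backward.isDefEq.respectTransparency.types false
set_option linter.style.haveILetI false

universe u

open CategoryTheory CategoryTheory.Limits AlgebraicGeometry Opposite AlgSp
open Groth.Agent.Lib.EtMod Groth.Agent.H8.MVSheaf

namespace Groth.Agent.H8.MVPush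

variable {S : Scheme.{u}} {X : Sp S}

/-- Sections of the restricted and extended module. -/
abbrev pSec (W : EtOver X) (F : ModEt X) (E : EtOver X) : Type (u + 1) :=
  sectModEt ((pushOnModEt W).obj ((resModEt W).obj F)) E

set_option maxHeartbeats 1000000 in
theorem unit_apply (W : EtOver X) (F : ModEt X) (E : EtOver X) (s : sectModEt F E) :
    (secMap ((resPushAdjEt W).unit.app F) E s : sectModEt F (W ⨯ E)) = res F prod.snd s := by
  have h : (Over.forgetAdjStar W).counit.app E = (prod.snd : W ⨯ E ⟶ E) := Over.forgetAdjStar_counit_app W E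
  exact congrArg (fun k : W ⨯ E ⟶ E => res F k s) h

theorem pushRes_apply {W' W : EtOver X} (g : W' ⟶ W) (F : ModEt X) (E : EtOver X) (s : pSec W F E) :
    (secMap ((pushResNatTrans g).app F) E s : sectModEt F (W' ⨯ E)) =
      res F (prod.map g (𝟙 E)) (show sectModEt F (W ⨯ E) from s) := rfl

theorem pushRes_res {W : EtOver X} (F : ModEt X) {E E' : EtOver X} (k : E' ⟶ E) (s : pSec W F E) :
    (res ((pushOnModEt W).obj ((resModEt W).obj F)) k s : sectModEt F (W ⨯ E')) =
      res F (prod.map (𝟙 W) k) (show sectModEt F (W ⨯ E) from s) := rfl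

/-- A morphism that is locally surjective on sections is an epimorphism. -/
theorem epi_of_local {P Q : ModEt X} (φ : P ⟶ Q)
    (h : ∀ (E : EtOver X) (m : sectModEt Q E) (x : E.obj.left.left), ∃ (E' : EtOver X) (k : E' ⟶ E)
      (y : sectModEt P E'), x ∈ Set.range k.hom.left.left ∧ secMap φ E' y = res Q k m) : Epi φ := by
  refine ⟨fun {Z} g₁ g₂ hg => SheafOfModules.hom_ext (PresheafOfModules.hom_ext fun Y =>
    ModuleCat.hom_ext (LinearMap.ext fun m => ?_))⟩
  obtain ⟨E⟩ := Y
  change secMap g₁ E m = secMap g₂ E m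
  choose E' k y hk hy using h E m
  refine eq_of_cover E' k (fun x => ⟨x, hk x⟩) fun x => ?_
  rw [← secMap_res, ← secMap_res, ← hy]
  exact congrArg (fun ψ : P ⟶ Z => secMap ψ (E' x) (y x)) hg

theorem mono_of_injective {P Q : ModEt X} (φ : P ⟶ Q) (h : ∀ E, Function.Injective (secMap φ E)) :
    Mono φ :=
  ⟨fun {Z} g₁ g₂ hg => SheafOfModules.hom_ext (PresheafOfModules.hom_ext fun Y =>
    ModuleCat.hom_ext (LinearMap.ext fun m => h Y.unop
      (congrArg (fun ψ : Z ⟶ Q => secMap ψ Y.unop (show sectModEt Z Y.unop from m)) hg)))⟩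

theorem epi_of_factor {P A Q K : ModEt X} (a : P ⟶ A) (b : A ⟶ Q) (ι : K ⟶ A) (l : P ⟶ K)
    (hl : l ≫ ι = a) (hι : ι ≫ b = 0) (hinj : ∀ E, Function.Injective (secMap ι E))
    (h : ∀ E y, secMap b E y = 0 → ∃ s, secMap a E s = y) : Epi l :=
  epi_of_local l fun E y x => by
    have h0 : secMap b E (secMap ι E y) = 0 := congrArg (fun ψ : K ⟶ Q => secMap ψ E y) hι
    obtain ⟨s, hs⟩ := h E (secMap ι E y) h0
    refine ⟨E, 𝟙 E, s, ⟨x, rfl⟩, hinj E ?_⟩
    rw [res_id_apply, ← secMap_comp, hl, hs]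

theorem exact_of_sections {P A Q : ModEt X} (a : P ⟶ A) (b : A ⟶ Q) (w : a ≫ b = 0)
    (h : ∀ E y, secMap b E y = 0 → ∃ s, secMap a E s = y) : (ShortComplex.mk a b w).Exact :=
  (ShortComplex.mk a b w).exact_iff_epi_kernel_lift.2
    (epi_of_factor a b (kernel.ι b) _ (kernel.lift_ι b a w) (kernel.condition b)
      (fun _ => SubSheaf.kernel_ι_injective b) h)

set_option maxHeartbeats 1000000 in
/-- Short exactness from sections. -/
theorem shortExact_of_sections {P A B Q : ModEt X} (u₁ : P ⟶ A) (u₂ : P ⟶ B) (v₁ : A ⟶ Q) (v₂ : B ⟶ Q)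
    (h0 : ∀ E s, secMap v₁ E (secMap u₁ E s) = secMap v₂ E (secMap u₂ E s))
    (hinj : ∀ E s, secMap u₁ E s = 0 → secMap u₂ E s = 0 → s = 0)
    (hmid : ∀ E a b, secMap v₁ E a = secMap v₂ E b → ∃ s, secMap u₁ E s = a ∧ secMap u₂ E s = b)
    (hepi : ∀ (E : EtOver X) (m : sectModEt Q E) (x : E.obj.left.left), ∃ (E' : EtOver X) (k : E' ⟶ E)
      (a : sectModEt A E') (b : sectModEt B E'),
        x ∈ Set.range k.hom.left.left ∧ secMap v₁ E' a - secMap v₂ E' b = res Q k m) :
    ∃ h : biprod.lift u₁ u₂ ≫ biprod.desc v₁ (-v₂) = 0, (ShortComplex.mk _ _ h).ShortExact := by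
  have hd : ∀ (E : EtOver X) (y : sectModEt (A ⊞ B) E), secMap (biprod.desc v₁ (-v₂)) E y =
      secMap v₁ E (secMap (biprod.fst : A ⊞ B ⟶ A) E y) -
        secMap v₂ E (secMap (biprod.snd : A ⊞ B ⟶ B) E y) := fun E y => by
    have e : biprod.desc v₁ (-v₂) = biprod.fst ≫ v₁ - biprod.snd ≫ v₂ := by
      rw [biprod.desc_eq, Preadditive.comp_neg, sub_eq_add_neg]
    rw [e]
    rfl
  have h1 : ∀ (E : EtOver X) (s : sectModEt P E),
      secMap (biprod.fst : A ⊞ B ⟶ A) E (secMap (biprod.lift u₁ u₂) E s) = secMap u₁ E s := fun E s =>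
    congrArg (fun ψ : P ⟶ A => secMap ψ E s) (biprod.lift_fst u₁ u₂)
  have h2 : ∀ (E : EtOver X) (s : sectModEt P E),
      secMap (biprod.snd : A ⊞ B ⟶ B) E (secMap (biprod.lift u₁ u₂) E s) = secMap u₂ E s := fun E s =>
    congrArg (fun ψ : P ⟶ B => secMap ψ E s) (biprod.lift_snd u₁ u₂)
  have hext : ∀ (E : EtOver X) (y y' : sectModEt (A ⊞ B) E),
      secMap (biprod.fst : A ⊞ B ⟶ A) E y = secMap biprod.fst E y' →
      secMap (biprod.snd : A ⊞ B ⟶ B) E y = secMap biprod.snd E y' → y = y' := fun E y y' ha hb => by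
    have e : ∀ z : sectModEt (A ⊞ B) E, secMap biprod.inl E (secMap (biprod.fst : A ⊞ B ⟶ A) E z) +
        secMap biprod.inr E (secMap (biprod.snd : A ⊞ B ⟶ B) E z) = z := fun z =>
      congrArg (fun ψ : A ⊞ B ⟶ A ⊞ B => secMap ψ E z) biprod.total
    rw [← e y, ← e y', ha, hb]
  have h : biprod.lift u₁ u₂ ≫ biprod.desc v₁ (-v₂) = 0 :=
    SheafOfModules.hom_ext (PresheafOfModules.hom_ext fun Y => ModuleCat.hom_ext (LinearMap.ext fun s => by
      obtain ⟨E⟩ := Y
      change secMap (biprod.desc v₁ (-v₂)) E (secMap (biprod.lift u₁ u₂) E s) = 0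
      rw [hd, h1, h2, h0, sub_self]))
  haveI : Mono (biprod.lift u₁ u₂) := mono_of_injective _ fun E => (injective_iff_map_eq_zero _).2 fun s hs =>
    hinj E s (by rw [← h1 E s, hs, map_zero]) (by rw [← h2 E s, hs, map_zero])
  haveI : Epi (biprod.desc v₁ (-v₂)) := epi_of_local _ fun E m x => by
    obtain ⟨E', k, a, b, hx, e⟩ := hepi E m x
    refine ⟨E', k, secMap biprod.inl E' a + secMap biprod.inr E' b, hx, ?_⟩
    have ea : secMap (biprod.desc v₁ (-v₂)) E' (secMap biprod.inl E' a) = secMap v₁ E' a :=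
      congrArg (fun ψ : A ⟶ Q => secMap ψ E' a) (biprod.inl_desc v₁ (-v₂))
    have eb : secMap (biprod.desc v₁ (-v₂)) E' (secMap biprod.inr E' b) = -secMap v₂ E' b :=
      congrArg (fun ψ : B ⟶ Q => secMap ψ E' b) (biprod.inr_desc v₁ (-v₂))
    rw [map_add, ea, eb, ← sub_eq_add_neg, e]
  refine ⟨h, { exact := exact_of_sections (biprod.lift u₁ u₂) (biprod.desc v₁ (-v₂)) h fun E y hy => ?_ }⟩
  rw [hd, sub_eq_zero] at hy
  obtain ⟨s, hs₁, hs₂⟩ := hmid E _ _ hy
  exact ⟨s, hext E _ _ ((h1 E s).trans hs₁) ((h2 E s).trans hs₂)⟩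

set_option maxHeartbeats 1000000 in
/-- The Mayer–Vietoris sequence of direct images is short exact. -/
theorem shortExact (hX : IsAlgSpace X) (U V : EtOver X) (hsq : IsElemDistSq U.obj.hom V.obj.hom)
    (F : ModEt X) :
    ∃ h : biprod.lift ((resPushAdjEt U).unit.app F) ((resPushAdjEt V).unit.app F) ≫
        biprod.desc ((pushResNatTrans (EtOver.prodFst U V)).app F)
          (-((pushResNatTrans (EtOver.prodSnd U V)).app F)) = 0,
      (ShortComplex.mk _ _ h).ShortExact := by
  refine shortExact_of_sections _ _ _ _ (fun E s => ?_) (fun E s hU hV => ?_) (fun E a b hab => ?_)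
    (fun E m x => ?_)
  · change res F (prod.map (EtOver.prodFst U V) (𝟙 E)) (secMap ((resPushAdjEt U).unit.app F) E s) =
      res F (prod.map (EtOver.prodSnd U V) (𝟙 E)) (secMap ((resPushAdjEt V).unit.app F) E s)
    rw [unit_apply, unit_apply, ← res_comp_apply, ← res_comp_apply, prod.map_snd, prod.map_snd]
  · replace hU : res F (prod.snd : U ⨯ E ⟶ E) s = 0 := (unit_apply U F E s).symm.trans hU
    replace hV : res F (prod.snd : V ⨯ E ⟶ E) s = 0 := (unit_apply V F E s).symm.trans hV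
    refine sect_ext U V (exists_piece U V hsq) (fun Z q c => ?_) (fun Z q c => ?_) <;>
    · rw [map_zero, ← prod.lift_snd c q, res_comp_apply]
      first
        | exact (congrArg (res F (prod.lift c q)) hU).trans (map_zero _)
        | exact (congrArg (res F (prod.lift c q)) hV).trans (map_zero _)
  · obtain ⟨s, h₁, h₂⟩ := exists_glue_pair U V hsq hX E (show sectModEt F (U ⨯ E) from a)
      (show sectModEt F (V ⨯ E) from b) hab
    exact ⟨s, (unit_apply U F E s).trans h₁, (unit_apply V F E s).trans h₂⟩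
  · obtain ⟨E', k, sU, sV, hx, h⟩ := exists_pre U V hsq hX E
      (show sectModEt F (EtOver.prodObj U V ⨯ E) from m) x
    refine ⟨E', k, sU, -sV, hx, ?_⟩
    change res F (prod.map (EtOver.prodFst U V) (𝟙 E')) sU -
      res F (prod.map (EtOver.prodSnd U V) (𝟙 E')) (-sV) = _
    rw [map_neg, sub_neg_eq_add]
    exact h.symm

end Groth.Agent.H8.MVPush
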