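import Groth.Agent.Lib.EtMod.QCoh
import Groth.Agent.Lib.EtMod.WeakAss
import Groth.Agent.Lib.AlgSpEDS.Basic
import Groth.Agent.Lib.AlgSpDecent.QS
import Groth.Prelude.Def_W4SpPerfMV

/-!
# The Mayer–Vietoris sequence of direct images for an elementary distinguished square
-/

set_option autoImplicit false
set_option backward.isDefEq.respectTransparency false
set_option backward.isDefEq.respectTransparency.types false
set_option linter.style.haveILetI false

universe u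

open CategoryTheory CategoryTheory.Limits AlgebraicGeometry Opposite AlgSp
open Groth.Agent.Lib.EtMod Groth.Agent.Lib.AlgSpace Groth.Agent.Lib.AlgSpMor

namespace Groth.Agent.H8.MVSheaf

variable {S : Scheme.{u}} {X : Sp S}

/-- An open piece of an object of the site. -/
theorem exists_subObj (E : EtOver X) {A : Over S} (a : A ⟶ E.obj.left) [IsOpenImmersion a.left] :
    ∃ (P : EtOver X) (g : P ⟶ E) (e : A ⟶ P.obj.left), e ≫ g.hom.left = a ∧ IsIso e :=
  ⟨EtOver.mk ((yon S).map a ≫ E.obj.hom) ((AlgSp.repWith_isMultiplicative (S := S) @Etale).comp_mem _ _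
      ((AlgSp.repWith_yon_map_iff _ _).2 (show Etale a.left from inferInstance)) E.property),
    EtOver.homMk a rfl, 𝟙 A, Category.id_comp _, inferInstance⟩

/-- Points in the image of an object of the site. -/
theorem exists_point {W : EtOver X} (p : Points ((yon S).obj W.obj.left)) :
    ∃ w : W.obj.left.left, Points.map W.obj.hom p = Points.ofPt W.obj.hom w := by
  obtain ⟨T, ρ, t, rfl⟩ := exists_ofPt_eq p
  obtain ⟨g, rfl⟩ := (yon S).map_surjective ρ
  exact ⟨g.left t, by rw [Points.map_ofPt, Groth.Agent.Lib.AlgSpDecent.Core.ofPt_map_comp]⟩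

variable (U V : EtOver X) (hsq : IsElemDistSq U.obj.hom V.obj.hom)

include hsq in
/-- Maps to the open part are unique. -/
theorem hom_ext_open {T : EtOver X} (a b : T ⟶ U) : a = b := by
  haveI : Mono U.obj.hom := mono_of_repWith (P := @IsOpenImmersion)
    (fun _ _ g (_ : IsOpenImmersion g) ↦ (inferInstance : Mono g)) hsq.1
  exact EtOver.hom_ext _ _ ((yon S).map_injective ((cancel_mono U.obj.hom).1
    ((EtOver.w a).trans (EtOver.w b).symm)))

include hsq in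
/-- Every object is covered by pieces over the two parts. -/
theorem exists_piece (E : EtOver X) (x : E.obj.left.left) :
    ∃ (Z : EtOver X) (q : Z ⟶ E), x ∈ Set.range q.hom.left.left ∧ (Nonempty (Z ⟶ U) ∨ Nonempty (Z ⟶ V)) := by
  rcases Groth.Agent.Lib.AlgSpEDS.mem_range_or hsq (Points.ofPt E.obj.hom x) with ⟨p, hp⟩ | ⟨p, hp⟩
  · obtain ⟨u, hu⟩ := exists_point p
    rw [hu] at hp
    obtain ⟨Z, -, a, b, z, ha, -⟩ := exists_common_chart hp.symm
    exact ⟨Z, a, ⟨z, ha⟩, Or.inl ⟨b⟩⟩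
  · obtain ⟨v, hv⟩ := exists_point p
    rw [hv] at hp
    obtain ⟨Z, -, a, b, z, ha, -⟩ := exists_common_chart hp.symm
    exact ⟨Z, a, ⟨z, ha⟩, Or.inr ⟨b⟩⟩

variable (hX : IsAlgSpace X)

include hsq hX in
/-- Two maps to the étale part agree outside the open part. -/
theorem exists_piece_eq {T : EtOver X} (a b : T ⟶ V) (t : T.obj.left.left) :
    ∃ (Z : EtOver X) (q : Z ⟶ T), t ∈ Set.range q.hom.left.left ∧ (q ≫ a = q ≫ b ∨ Nonempty (Z ⟶ U)) := by
  have hd := Groth.Agent.Lib.AlgSpEDS.isOpenImmersion_diagonal (AlgSp.IsAlgSpace.yon_obj V.obj.left) hX hsq.2.1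
  obtain ⟨hj, -, T₀, P, i, p₁, p₂, ⟨-, hr, -⟩, sq, _⟩ := hsq
  have e : (yon S).map a.hom.left ≫ V.obj.hom = (yon S).map b.hom.left ≫ V.obj.hom :=
    (EtOver.w a).trans (EtOver.w b).symm
  let ρ := pullback.lift ((yon S).map a.hom.left) ((yon S).map b.hom.left) e
  by_cases ht : Points.ofPt T.obj.hom t ∈ Set.range (Points.map U.obj.hom)
  · obtain ⟨p, hp⟩ := ht
    obtain ⟨u, hu⟩ := exists_point p
    rw [hu] at hp
    obtain ⟨Z, -, q, c, z, hz, -⟩ := exists_common_chart hp.symm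
    exact ⟨Z, q, ⟨z, hz⟩, Or.inr ⟨c⟩⟩
  · obtain ⟨t₀, ht₀⟩ : Points.ofPt T.obj.hom t ∈ Set.range (Points.map i) := by rw [hr]; exact ht
    obtain ⟨A, o, c, sqA, haO⟩ := repWith_exists hd ρ
    haveI : IsOpenImmersion o.left := haO
    have sqk : IsPullback (inv p₁ ≫ p₂) (𝟙 T₀) V.obj.hom i :=
      (IsPullback.of_iso sq.flip (asIso p₁) (Iso.refl _) (Iso.refl _) (Iso.refl _)
        (by simp) (by simp) (by simp) (by simp))
    have ht' : t ∈ Points.ofPt ρ ⁻¹' (Points.map (pullback.diagonal V.obj.hom) '' Set.univ) := by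
      rw [Set.image_univ]
      refine Groth.Agent.Lib.AlgSpTopInv.mem_range_diagonal sqk _ ⟨t₀, ?_⟩
      rw [Points.map_ofPt, ht₀]
      congr 1
      exact ((pullback.lift_fst_assoc _ _ _ _).trans (EtOver.w a)).symm
    rw [preimage_image_map sqA] at ht'
    obtain ⟨y, -, hy⟩ := ht'
    obtain ⟨Z, q, ε, hε, hiso⟩ := exists_subObj T o
    have hab : o ≫ a.hom.left = o ≫ b.hom.left := by
      apply (yon S).map_injective
      have e1 := congr($(sqA.w) ≫ pullback.fst V.obj.hom V.obj.hom)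
      have e2 := congr($(sqA.w) ≫ pullback.snd V.obj.hom V.obj.hom)
      simp only [Category.assoc, pullback.diagonal_fst, pullback.diagonal_snd, Category.comp_id, ρ,
        pullback.lift_fst, pullback.lift_snd] at e1 e2
      rw [Functor.map_comp, Functor.map_comp]
      exact e1.symm.trans e2
    refine ⟨Z, q, ⟨ε.left y, ?_⟩, Or.inl (EtOver.hom_ext _ _ ?_)⟩
    · rw [← hε] at hy
      exact hy
    · change q.hom.left ≫ a.hom.left = q.hom.left ≫ b.hom.left
      haveI := hiso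
      rw [← cancel_epi ε, ← Category.assoc, ← Category.assoc, hε, hab]

variable {F : ModEt X}

/-- Gluing along a functional relation. -/
theorem exists_glue_rel (E : EtOver X) (R : ∀ Z : EtOver X, (Z ⟶ E) → sectModEt F Z → Prop)
    (hst : ∀ {Z Z' : EtOver X} (k : Z' ⟶ Z) {q : Z ⟶ E} {s : sectModEt F Z}, R Z q s → R Z' (k ≫ q) (res F k s))
    (huniq : ∀ {Z : EtOver X} {q : Z ⟶ E} {s s' : sectModEt F Z}, R Z q s → R Z q s' → s = s')
    (hcov : ∀ x : E.obj.left.left, ∃ (Z : EtOver X) (q : Z ⟶ E) (s : sectModEt F Z),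
      R Z q s ∧ x ∈ Set.range q.hom.left.left) :
    ∃ t : sectModEt F E, ∀ (Z : EtOver X) (q : Z ⟶ E) (s : sectModEt F Z), R Z q s → res F q t = s := by
  choose W g s hR hg using hcov
  obtain ⟨t, ht⟩ := exists_glue W g (fun x => ⟨x, hg x⟩) s fun i j => by
    have h₁ := hst (EtOver.pullbackFst (g i) (g j)) (hR i)
    rw [EtOver.pullback_condition] at h₁
    exact huniq h₁ (hst (EtOver.pullbackSnd (g i) (g j)) (hR j))
  refine ⟨t, fun Z q s' h' => ?_⟩
  refine eq_of_cover (fun x => EtOver.pullbackObj q (g x)) (fun x => EtOver.pullbackFst q (g x))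
    (fun z => ?_) fun x => ?_
  · obtain ⟨v, hv⟩ := exists_pullbackFst_preimage q (g (q.hom.left.left z)) (hg _)
    exact ⟨q.hom.left.left z, v, hv⟩
  · have h₁ := hst (EtOver.pullbackFst q (g x)) h'
    rw [← res_comp_apply]
    rw [EtOver.pullback_condition] at h₁ ⊢
    rw [res_comp_apply, ht]
    exact huniq (hst (EtOver.pullbackSnd q (g x)) (hR x)) h₁

/-- Sections agree if they agree on the pieces over the two parts. -/
theorem sect_ext (hcov : ∀ (E : EtOver X) (x : E.obj.left.left), ∃ (Z : EtOver X) (q : Z ⟶ E),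
    x ∈ Set.range q.hom.left.left ∧ (Nonempty (Z ⟶ U) ∨ Nonempty (Z ⟶ V))) {E : EtOver X}
    {s t : sectModEt F E}
    (hu : ∀ (Z : EtOver X) (q : Z ⟶ E), (Z ⟶ U) → res F q s = res F q t)
    (hv : ∀ (Z : EtOver X) (q : Z ⟶ E), (Z ⟶ V) → res F q s = res F q t) : s = t := by
  choose Z q hq hZ using hcov E
  refine eq_of_cover Z q (fun x => ⟨x, hq x⟩) fun x => ?_
  rcases hZ x with ⟨⟨a⟩⟩ | ⟨⟨a⟩⟩
  · exact hu _ _ a
  · exact hv _ _ a

theorem res_lift {Z A E E' : EtOver X} (k : A ⨯ E ⟶ E') (c : Z ⟶ A) (q : Z ⟶ A ⨯ E) (e : Z ⟶ E)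
    (hc : q ≫ prod.fst = c) (he : q ≫ prod.snd = e) (s : sectModEt F E') :
    res F q (res F k s) = res F (prod.lift c e ≫ k) s := by
  rw [← res_comp_apply]
  congr 2
  apply congrArg (· ≫ k)
  exact Limits.prod.hom_ext (by simp [hc]) (by simp [he])

include hsq hX in
/-- Middle exactness. -/
theorem exists_glue_pair (E : EtOver X) (sU : sectModEt F (U ⨯ E)) (sV : sectModEt F (V ⨯ E))
    (h : res F (prod.map (EtOver.prodFst U V) (𝟙 E)) sU = res F (prod.map (EtOver.prodSnd U V) (𝟙 E)) sV) :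
    ∃ s : sectModEt F E, res F prod.snd s = sU ∧ res F prod.snd s = sV := by
  have hmix : ∀ {Z : EtOver X} (c : Z ⟶ U) (a : Z ⟶ V) (q : Z ⟶ E),
      res F (prod.lift c q) sU = res F (prod.lift a q) sV := fun {Z} c a q => by
    let l : Z ⟶ EtOver.prodObj U V := (EtOver.prodIsLimit U V).lift (BinaryFan.mk c a)
    have hl₁ : l ≫ EtOver.prodFst U V = c := (EtOver.prodIsLimit U V).fac _ ⟨WalkingPair.left⟩
    have hl₂ : l ≫ EtOver.prodSnd U V = a := (EtOver.prodIsLimit U V).fac _ ⟨WalkingPair.right⟩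
    have e₁ : prod.lift c q = prod.lift l q ≫ prod.map (EtOver.prodFst U V) (𝟙 E) := by
      rw [prod.lift_map, hl₁, Category.comp_id]
    have e₂ : prod.lift a q = prod.lift l q ≫ prod.map (EtOver.prodSnd U V) (𝟙 E) := by
      rw [prod.lift_map, hl₂, Category.comp_id]
    rw [e₁, e₂, res_comp_apply, res_comp_apply, h]
  have hvv : ∀ {Z : EtOver X} (a a' : Z ⟶ V) (q : Z ⟶ E),
      res F (prod.lift a q) sV = res F (prod.lift a' q) sV := fun {Z} a a' q => by
    choose W k hk hW using exists_piece_eq U V hsq hX a a'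
    refine eq_of_cover W k (fun x => ⟨x, hk x⟩) fun x => ?_
    rw [← res_comp_apply, ← res_comp_apply, prod.comp_lift, prod.comp_lift]
    rcases hW x with e | ⟨⟨c⟩⟩
    · rw [e]
    · rw [← hmix c (k x ≫ a) (k x ≫ q), ← hmix c (k x ≫ a') (k x ≫ q)]
  obtain ⟨s, hs⟩ := exists_glue_rel E (fun Z q t => (∃ c : Z ⟶ U, t = res F (prod.lift c q) sU) ∨
      ∃ a : Z ⟶ V, t = res F (prod.lift a q) sV)
    (fun {Z Z'} k {q t} hR => by
      rcases hR with ⟨c, rfl⟩ | ⟨a, rfl⟩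
      · exact Or.inl ⟨k ≫ c, by rw [← res_comp_apply, prod.comp_lift]⟩
      · exact Or.inr ⟨k ≫ a, by rw [← res_comp_apply, prod.comp_lift]⟩)
    (fun {Z q t t'} hR hR' => by
      rcases hR with ⟨c, rfl⟩ | ⟨a, rfl⟩ <;> rcases hR' with ⟨c', rfl⟩ | ⟨a', rfl⟩
      · rw [hom_ext_open U V hsq c c']
      · exact hmix c a' q
      · exact (hmix c' a q).symm
      · exact hvv a a' q)
    (fun x => by
      obtain ⟨Z, q, hx, ⟨⟨c⟩⟩ | ⟨⟨a⟩⟩⟩ := exists_piece U V hsq E x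
      · exact ⟨Z, q, _, Or.inl ⟨c, rfl⟩, hx⟩
      · exact ⟨Z, q, _, Or.inr ⟨a, rfl⟩, hx⟩)
  refine ⟨s, hs _ _ _ (Or.inl ⟨prod.fst, ?_⟩), hs _ _ _ (Or.inr ⟨prod.fst, ?_⟩)⟩ <;>
  · rw [prod.lift_fst_snd]
    exact (res_id_apply _).symm

include hsq hX in
/-- Local surjectivity on a piece over the étale part. -/
theorem exists_pre_of_hom {E' : EtOver X} (a : E' ⟶ V) (t : sectModEt F (EtOver.prodObj U V ⨯ E')) :
    ∃ (sU : sectModEt F (U ⨯ E')) (sV : sectModEt F (V ⨯ E')),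
      t = res F (prod.map (EtOver.prodFst U V) (𝟙 E')) sU + res F (prod.map (EtOver.prodSnd U V) (𝟙 E')) sV := by
  let pr : ∀ {Z : EtOver X}, (Z ⟶ U) → (Z ⟶ V) → (Z ⟶ EtOver.prodObj U V) := fun c v =>
    (EtOver.prodIsLimit U V).lift (BinaryFan.mk c v)
  have hpr₁ : ∀ {Z : EtOver X} (c : Z ⟶ U) (v : Z ⟶ V), pr c v ≫ EtOver.prodFst U V = c :=
    fun c v => (EtOver.prodIsLimit U V).fac _ ⟨WalkingPair.left⟩
  have hpr₂ : ∀ {Z : EtOver X} (c : Z ⟶ U) (v : Z ⟶ V), pr c v ≫ EtOver.prodSnd U V = v :=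
    fun c v => (EtOver.prodIsLimit U V).fac _ ⟨WalkingPair.right⟩
  have hprk : ∀ {Z Z' : EtOver X} (k : Z' ⟶ Z) (c : Z ⟶ U) (v : Z ⟶ V), k ≫ pr c v = pr (k ≫ c) (k ≫ v) :=
    fun k c v => BinaryFan.IsLimit.hom_ext (EtOver.prodIsLimit U V)
      (by change (k ≫ pr c v) ≫ EtOver.prodFst U V = pr (k ≫ c) (k ≫ v) ≫ EtOver.prodFst U V
          rw [Category.assoc, hpr₁, hpr₁])
      (by change (k ≫ pr c v) ≫ EtOver.prodSnd U V = pr (k ≫ c) (k ≫ v) ≫ EtOver.prodSnd U V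
          rw [Category.assoc, hpr₂, hpr₂])
  obtain ⟨val, hval⟩ : ∃ val : ∀ {Z : EtOver X}, (Z ⟶ U) → (Z ⟶ V) → (Z ⟶ E') → sectModEt F Z,
      ∀ (Z : EtOver X) (c : Z ⟶ U) (v : Z ⟶ V) (e : Z ⟶ E'),
        val c v e = res F (prod.lift (pr c v) e) t - res F (prod.lift (pr c (e ≫ a)) e) t :=
    ⟨fun c v e => _, fun _ _ _ _ => rfl⟩
  have hvalk : ∀ {Z Z' : EtOver X} (k : Z' ⟶ Z) (c : Z ⟶ U) (v : Z ⟶ V) (e : Z ⟶ E'),
      res F k (val c v e) = val (k ≫ c) (k ≫ v) (k ≫ e) := fun {Z Z'} k c v e => by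
    rw [hval, hval, map_sub, ← res_comp_apply, ← res_comp_apply, prod.comp_lift, prod.comp_lift, hprk, hprk,
      Category.assoc]
  obtain ⟨sV, hsV⟩ := exists_glue_rel (F := F) (V ⨯ E')
    (fun Z q s => (q ≫ prod.fst = q ≫ prod.snd ≫ a ∧ s = 0) ∨
      ∃ c : Z ⟶ U, s = val c (q ≫ prod.fst) (q ≫ prod.snd))
    (fun {Z Z'} k {q s} hR => by
      rcases hR with ⟨e, rfl⟩ | ⟨c, rfl⟩
      · exact Or.inl ⟨by simp only [Category.assoc, e], map_zero _⟩
      · exact Or.inr ⟨k ≫ c, by rw [hvalk, Category.assoc, Category.assoc]⟩)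
    (fun {Z q s s'} hR hR' => by
      have h0 : ∀ c : Z ⟶ U, q ≫ prod.fst = q ≫ prod.snd ≫ a →
          val c (q ≫ prod.fst) (q ≫ prod.snd) = 0 := fun c e => by
        rw [hval, e, Category.assoc, sub_self]
      rcases hR with ⟨e, rfl⟩ | ⟨c, rfl⟩ <;> rcases hR' with ⟨e', rfl⟩ | ⟨c', rfl⟩
      · rfl
      · exact (h0 c' e).symm
      · exact h0 c e'
      · rw [hom_ext_open U V hsq c c'])
    (fun x => by
      obtain ⟨Z, q, hx, e | ⟨⟨c⟩⟩⟩ := exists_piece_eq U V hsq hX (prod.fst : V ⨯ E' ⟶ V) (prod.snd ≫ a) x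
      · exact ⟨Z, q, 0, Or.inl ⟨e, rfl⟩, hx⟩
      · exact ⟨Z, q, _, Or.inr ⟨c, rfl⟩, hx⟩)
  refine ⟨res F (prod.lift (pr prod.fst (prod.snd ≫ a)) prod.snd) t, sV, ?_⟩
  rw [hsV _ (prod.map (EtOver.prodSnd U V) (𝟙 E')) _ (Or.inr ⟨prod.fst ≫ EtOver.prodFst U V, rfl⟩), hval,
    ← res_comp_apply, prod.comp_lift, hprk]
  have e₁ : pr (prod.fst ≫ EtOver.prodFst U V) (prod.map (EtOver.prodSnd U V) (𝟙 E') ≫ prod.fst) =
      (prod.fst : EtOver.prodObj U V ⨯ E' ⟶ _) :=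
    BinaryFan.IsLimit.hom_ext (EtOver.prodIsLimit U V) ((hpr₁ _ _)) ((hpr₂ _ _).trans (prod.map_fst _ _))
  have e₂ : prod.map (EtOver.prodSnd U V) (𝟙 E') ≫ prod.snd = (prod.snd : EtOver.prodObj U V ⨯ E' ⟶ _) := by
    simp
  rw [e₁, e₂, prod.lift_fst_snd, prod.map_fst, ← Category.assoc, prod.map_snd, Category.comp_id,
    add_sub_cancel]
  exact (res_id_apply t).symm

include hsq hX in
/-- Local surjectivity. -/
theorem exists_pre (E : EtOver X) (t : sectModEt F (EtOver.prodObj U V ⨯ E)) (x : E.obj.left.left) :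
    ∃ (E' : EtOver X) (k : E' ⟶ E) (sU : sectModEt F (U ⨯ E')) (sV : sectModEt F (V ⨯ E')),
      x ∈ Set.range k.hom.left.left ∧ res F (prod.map (𝟙 _) k) t =
        res F (prod.map (EtOver.prodFst U V) (𝟙 E')) sU + res F (prod.map (EtOver.prodSnd U V) (𝟙 E')) sV := by
  obtain ⟨E', k, hx, ⟨⟨c⟩⟩ | ⟨⟨a⟩⟩⟩ := exists_piece U V hsq E x
  · let l : V ⨯ E' ⟶ EtOver.prodObj U V :=
      (EtOver.prodIsLimit U V).lift (BinaryFan.mk (prod.snd ≫ c) prod.fst)
    refine ⟨E', k, 0, res F (prod.lift l (prod.snd ≫ k)) t, hx, ?_⟩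
    rw [map_zero, zero_add, ← res_comp_apply, prod.comp_lift]
    congr 2
    refine Limits.prod.hom_ext ?_ ?_
    · rw [prod.map_fst, Category.comp_id, prod.lift_fst]
      refine BinaryFan.IsLimit.hom_ext (EtOver.prodIsLimit U V) (hom_ext_open U V hsq _ _) ?_
      change _ = (_ ≫ l) ≫ EtOver.prodSnd U V
      rw [Category.assoc, show l ≫ EtOver.prodSnd U V = prod.fst from
        (EtOver.prodIsLimit U V).fac _ ⟨WalkingPair.right⟩, prod.map_fst]
      rfl
    · rw [prod.map_snd, prod.lift_snd, ← Category.assoc, prod.map_snd, Category.comp_id]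
  · obtain ⟨sU, sV, h⟩ := exists_pre_of_hom U V hsq hX a (res F (prod.map (𝟙 _) k) t)
    exact ⟨E', k, sU, sV, hx, h⟩

end Groth.Agent.H8.MVSheaf
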