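import Mathlib.Algebra.Category.ModuleCat.Presheaf.Pullback
import Mathlib.Algebra.Category.ModuleCat.Sheaf.PullbackContinuous
import Mathlib.CategoryTheory.Category.ULift

/-!
# Existence of inverse images of modules on sites with objects one universe up
-/

set_option autoImplicit false
set_option backward.isDefEq.respectTransparency false
set_option backward.isDefEq.respectTransparency.types false

universe u

open CategoryTheory Opposite

namespace Groth.Agent.H8.PullExists

variable {C D : Type (u + 1)} [Category.{u} C] [Category.{u} D]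

/-- A presheaf of rings transported to the category with lifted hom types. -/
abbrev lift (R : Cᵒᵖ ⥤ RingCat.{u + 1}) : (ULiftHom.{u + 1} C)ᵒᵖ ⥤ RingCat.{u + 1} :=
  ULiftHom.down.op ⋙ R

/-- The comparison from a presheaf of rings to its transport. -/
def unlift (R : Cᵒᵖ ⥤ RingCat.{u + 1}) : R ⟶ (ULiftHom.up.{u, u + 1}).op ⋙ lift R where
  app X := 𝟙 (R.obj X)
  naturality _ _ f := (Category.comp_id _).trans (Category.id_comp _).symm

/-- Transporting modules to the category with lifted hom types. -/
noncomputable def liftMod (R : Cᵒᵖ ⥤ RingCat.{u + 1}) :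
    PresheafOfModules.{u + 1} R ⥤ PresheafOfModules.{u + 1} (lift R) :=
  PresheafOfModules.pushforward (F := ULiftHom.down) (𝟙 (lift R))

/-- Transporting modules back. -/
noncomputable def unliftMod (R : Cᵒᵖ ⥤ RingCat.{u + 1}) :
    PresheafOfModules.{u + 1} (lift R) ⥤ PresheafOfModules.{u + 1} R :=
  PresheafOfModules.pushforward (unlift R)

/-- Transporting back and forth does nothing. -/
noncomputable def unitApp (R : Cᵒᵖ ⥤ RingCat.{u + 1}) (M : PresheafOfModules.{u + 1} R) :
    M ≅ (unliftMod R).obj ((liftMod R).obj M) :=
  PresheafOfModules.isoMk (fun X => ((show M.obj X ≃ₗ[R.obj X] ((unliftMod R).obj ((liftMod R).obj M)).obj X from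
    { toFun := fun x => x, invFun := fun x => x, map_add' := fun _ _ => rfl, map_smul' := fun _ _ => rfl,
      left_inv := fun _ => rfl, right_inv := fun _ => rfl }).toModuleIso))
    (fun X Y f => by ext x; rfl)

/-- Transporting forth and back does nothing. -/
noncomputable def counitApp (R : Cᵒᵖ ⥤ RingCat.{u + 1}) (M : PresheafOfModules.{u + 1} (lift R)) :
    (liftMod R).obj ((unliftMod R).obj M) ≅ M :=
  PresheafOfModules.isoMk (fun X => ((show ((liftMod R).obj ((unliftMod R).obj M)).obj X ≃ₗ[(lift R).obj X] M.obj X from
    { toFun := fun x => x, invFun := fun x => x, map_add' := fun _ _ => rfl, map_smul' := fun _ _ => rfl,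
      left_inv := fun _ => rfl, right_inv := fun _ => rfl }).toModuleIso))
    (fun X Y f => by ext x; rfl)

/-- The transport of modules is an equivalence. -/
noncomputable def liftEquiv (R : Cᵒᵖ ⥤ RingCat.{u + 1}) :
    PresheafOfModules.{u + 1} R ≌ PresheafOfModules.{u + 1} (lift R) :=
  CategoryTheory.Equivalence.mk (liftMod R) (unliftMod R)
    (NatIso.ofComponents (unitApp R) (fun {M N} f => by
      ext X x
      rfl))
    (NatIso.ofComponents (counitApp R) (fun {M N} f => by
      ext X x
      rfl))

variable {F : C ⥤ D} {R : Dᵒᵖ ⥤ RingCat.{u + 1}} {S : Cᵒᵖ ⥤ RingCat.{u + 1}} (φ : S ⟶ F.op ⋙ R)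

/-- The transported functor. -/
abbrev liftFun (F : C ⥤ D) : ULiftHom.{u + 1} C ⥤ ULiftHom.{u + 1} D :=
  ULiftHom.down ⋙ F ⋙ ULiftHom.up

/-- The transported morphism of presheaves of rings. -/
def liftHom : lift S ⟶ (liftFun F).op ⋙ lift R where
  app X := φ.app (op (ULiftHom.down.obj X.unop))
  naturality _ _ f := φ.naturality (ULiftHom.down.op.map f)

/-- The direct image factors through the transported one. -/
noncomputable def factorIso :
    (liftEquiv R).functor ⋙ PresheafOfModules.pushforward.{u + 1} (liftHom φ) ⋙ (liftEquiv S).inverse ≅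
      PresheafOfModules.pushforward.{u + 1} φ :=
  NatIso.ofComponents (fun M => Iso.refl _) (fun {M N} f => by
    ext X x
    rfl)

/-- Presheaves of modules have inverse images along every functor. -/
theorem isRightAdjoint_pushforward : (PresheafOfModules.pushforward.{u + 1} φ).IsRightAdjoint :=
  Functor.isRightAdjoint_of_iso (factorIso φ)

/-- Sheaves of modules have inverse images. -/
theorem isRightAdjoint_sheaf {J : GrothendieckTopology C} {K : GrothendieckTopology D}
    [Functor.IsContinuous F J K] {S' : Sheaf J RingCat.{u + 1}} {R' : Sheaf K RingCat.{u + 1}}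
    [HasWeakSheafify K AddCommGrpCat.{u + 1}] [K.WEqualsLocallyBijective AddCommGrpCat.{u + 1}]
    (ψ : S' ⟶ (F.sheafPushforwardContinuous RingCat.{u + 1} J K).obj R') :
    (SheafOfModules.pushforward.{u + 1} ψ).IsRightAdjoint :=
  haveI := isRightAdjoint_pushforward ψ.hom
  inferInstance

end Groth.Agent.H8.PullExists
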