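import Groth.Agent.H8.PullExists
import Groth.Agent.Lib.EtMod.EtalePull

/-!
# Inverse images of modules on small etale sites exist
-/

set_option autoImplicit false
set_option backward.isDefEq.respectTransparency false
set_option backward.isDefEq.respectTransparency.types false

universe u

open CategoryTheory AlgebraicGeometry Opposite AlgSp

namespace Groth.Agent.H8.PullModEt

variable {S : Scheme.{u}} {X Y : Sp S} {f : X ⟶ Y}

/-- The inverse image of modules along a representable morphism exists. -/
theorem isRightAdjoint_pushforward (hf : Representable f) :
    (SheafOfModules.pushforward.{u + 1} (bcRingHom hf)).IsRightAdjoint :=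
  PullExists.isRightAdjoint_sheaf (bcRingHom hf)

end Groth.Agent.H8.PullModEt
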