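import Groth.Agent.H8.SiteTransport
import Groth.Agent.Lib.EtMod.Basic
import Groth.Agent.Lib.ToposFin.Site
import Groth.Agent.Lib.AlgSpace.DiagProp
import Groth.Agent.Lib.AlgSpMor.QC
import Groth.Agent.Lib.AlgSpDecent.QS
import Groth.Prelude.Def_AlgSpOX
import Mathlib.CategoryTheory.Limits.Constructions.Equalizers

/-!
# The site of quasi-compact quasi-separated étale objects over an algebraic space

It computes the étale topos, which is algebraic with coherent final object when the space is
quasi-compact and quasi-separated; hence cohomology commutes with filtered colimits.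
-/

set_option autoImplicit false
set_option backward.isDefEq.respectTransparency false
set_option backward.isDefEq.respectTransparency.types false
set_option linter.style.haveILetI false

universe u

open CategoryTheory CategoryTheory.Limits AlgebraicGeometry Opposite AlgSp
open Groth.Agent.Lib.EtMod Groth.TFin
open Groth.Agent.Lib.ToposFin

namespace Groth.Agent.H8.QcqsSite

variable {S : Scheme.{u}} (X : Sp S)

/-- Objects with quasi-compact quasi-separated scheme. -/
def IsQcqsObj : ObjectProperty (EtOver X) := fun E =>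
  CompactSpace E.obj.left.left ∧ QuasiSeparatedSpace E.obj.left.left

/-- The site of quasi-compact quasi-separated objects. -/
abbrev QSite : Type (u + 1) := AsSmall.{u + 1} (IsQcqsObj X).FullSubcategory

/-- Its inclusion in the étale site. -/
abbrev incl : QSite X ⥤ EtOver X := AsSmall.down ⋙ (IsQcqsObj X).ι

instance incl_full : (incl X).Full := by
  haveI : (AsSmall.down : QSite X ⥤ _).IsEquivalence := AsSmall.equiv.isEquivalence_inverse
  infer_instance

instance incl_faithful : (incl X).Faithful := by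
  haveI : (AsSmall.down : QSite X ⥤ _).IsEquivalence := AsSmall.equiv.isEquivalence_inverse
  infer_instance

variable {X}

/-- An object of the small site from a qcqs object. -/
def mkQ (E : EtOver X) (hE : IsQcqsObj X E) : QSite X := ULift.up ⟨E, hE⟩

theorem isQcqsObj_of_isAffine (E : EtOver X) [IsAffine E.obj.left.left] : IsQcqsObj X E :=
  ⟨inferInstance, inferInstance⟩

instance incl_isCoverDense : (incl X).IsCoverDense (etTop X) where
  is_cover E := by
    choose W j hW hj using fun v : E.obj.left.left => exists_affine_open_obj v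
    refine (etTop X).superset_covering ?_ (ofArrows_mem_etTop W j fun v => ⟨v, hj v⟩)
    refine (Sieve.generate_le_iff _ _).2 ?_
    rintro _ _ ⟨v⟩
    haveI := hW v
    exact Presieve.in_coverByImage (incl X) (Y := mkQ (W v) (isQcqsObj_of_isAffine _)) (j v)

variable (X) in
/-- The induced topology. -/
noncomputable abbrev qTop : GrothendieckTopology (QSite X) := (incl X).inducedTopology (etTop X)

theorem mem_qTop {E : QSite X} (R : Sieve E) :
    R ∈ qTop X E ↔ R.functorPushforward (incl X) ∈ etTop X ((incl X).obj E) :=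
  Functor.mem_inducedTopology_iff_of_isCoverDense _ _ _

theorem isQCSite_qTop (E : QSite X) : ToposFin.IsQCSite (qTop X) E := by
  intro R hR
  haveI : CompactSpace ((incl X).obj E).obj.left.left := (ULift.down E).property.1
  obtain ⟨R₀, hR₀, hle⟩ := (Precoverage.mem_toGrothendieck_iff_of_isStableUnderComposition
    (J := etPre X)).1 ((mem_qTop R).1 hR)
  obtain ⟨ι, V, f, rfl⟩ := R₀.exists_eq_ofArrows
  have h : ∀ x : ((incl X).obj E).obj.left.left, ∃ (W : QSite X) (g : W ⟶ E),
      R g ∧ x ∈ Set.range ((incl X).map g).hom.left.left := fun x => by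
    obtain ⟨i, v, hv⟩ := (ofArrows_mem_etPre_iff V f).1 hR₀ x
    obtain ⟨W, j, hW, w, hw⟩ := exists_affine_open_obj v
    obtain ⟨Z, g, c, hg, e⟩ := hle _ _ ⟨i⟩
    let Wq := mkQ W (haveI := hW; isQcqsObj_of_isAffine W)
    let r : Wq ⟶ Z := (incl X).preimage (X := Wq) (j ≫ c)
    refine ⟨Wq, r ≫ g, R.downward_closed hg r, w, ?_⟩
    rw [Functor.map_comp, Functor.map_preimage, Category.assoc, ← e]
    change (f i).hom.left.left (j.hom.left.left w) = x
    rw [hw, hv]
  choose W g hg hx using h
  have hopen : ∀ x, IsOpen (Set.range ((incl X).map (g x)).hom.left.left) := fun x => by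
    have := EtOver.etale_left ((incl X).map (g x))
    exact ((incl X).map (g x)).hom.left.left.isOpenMap.isOpen_range
  obtain ⟨t, ht⟩ := isCompact_univ.elim_finite_subcover
    (fun x => Set.range ((incl X).map (g x)).hom.left.left) hopen fun x _ => Set.mem_iUnion.2 ⟨x, hx x⟩
  let e := t.equivFin.symm
  refine ⟨t.card, fun k => W (e k).1, fun k => g (e k).1, fun k => hg _, (mem_qTop _).2 ?_⟩
  refine (etTop X).superset_covering ?_ (ofArrows_mem_etTop (fun k => (incl X).obj (W (e k).1))
    (fun k => (incl X).map (g (e k).1)) fun x => ?_)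
  · refine (Sieve.generate_le_iff _ _).2 ?_
    rintro _ _ ⟨k⟩
    exact Sieve.image_mem_functorPushforward _ _ (Sieve.ofArrows_mk (fun k => W (e k).1) (fun k => g (e k).1) k)
  · obtain ⟨x', hx', hxx'⟩ := Set.mem_iUnion₂.1 (ht (Set.mem_univ x))
    obtain ⟨k, hk⟩ := e.surjective ⟨x', hx'⟩
    obtain rfl : x' = (e k).1 := (congrArg Subtype.val hk).symm
    exact ⟨k, hxx'⟩

theorem isQcqsObj_pullback {E₁ E₂ E : EtOver X} (g₁ : E₁ ⟶ E) (g₂ : E₂ ⟶ E) (h₁ : IsQcqsObj X E₁)
    (h₂ : IsQcqsObj X E₂) (h : IsQcqsObj X E) : IsQcqsObj X (EtOver.pullbackObj g₁ g₂) := by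
  obtain ⟨_, _⟩ := h₁
  obtain ⟨_, _⟩ := h₂
  obtain ⟨_, _⟩ := h
  have sq := isPullback_left g₁ g₂
  haveI : QuasiCompact g₂.hom.left.left := quasiCompact_of_compactSpace _
  haveI : QuasiSeparated g₂.hom.left.left := inferInstance
  haveI : QuasiCompact (EtOver.pullbackFst g₁ g₂).hom.left.left :=
    MorphismProperty.of_isPullback (P := @QuasiCompact) sq.flip ‹_›
  haveI : QuasiSeparated (EtOver.pullbackFst g₁ g₂).hom.left.left :=
    MorphismProperty.of_isPullback (P := @QuasiSeparated) sq.flip ‹_›
  exact ⟨QuasiCompact.compactSpace_of_compactSpace (EtOver.pullbackFst g₁ g₂).hom.left.left,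
    quasiSeparatedSpace_of_quasiSeparated (EtOver.pullbackFst g₁ g₂).hom.left.left⟩

theorem isQcqsObj_prod [QuasiSeparatedSpace ↥S] (hqs : IsQuasiSeparatedSp X) (E₁ E₂ : EtOver X)
    (h₁ : IsQcqsObj X E₁) (h₂ : IsQcqsObj X E₂) : IsQcqsObj X (EtOver.prodObj E₁ E₂) := by
  obtain ⟨_, _⟩ := h₁
  obtain ⟨_, _⟩ := h₂
  let U := E₁.obj.left
  let V := E₂.obj.left
  haveI : QuasiCompact V.hom := quasiCompact_of_compactSpace _
  haveI : QuasiSeparated V.hom := inferInstance
  haveI hc : CompactSpace ↥(pullback U.hom V.hom) :=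
    QuasiCompact.compactSpace_of_compactSpace (pullback.fst U.hom V.hom)
  haveI hq : QuasiSeparatedSpace ↥(pullback U.hom V.hom) :=
    quasiSeparatedSpace_of_quasiSeparated (pullback.fst U.hom V.hom)
  haveI : CompactSpace ↥(U ⨯ V).left :=
    (Over.prodLeftIsoPullback U V).symm.schemeIsoToHomeo.compactSpace
  haveI : QuasiSeparatedSpace ↥(U ⨯ V).left :=
    quasiSeparatedSpace_of_quasiSeparated (Over.prodLeftIsoPullback U V).hom
  let p : (EtOver.prodObj E₁ E₂).obj.left ⟶ U := E₂.property.1.snd E₁.obj.hom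
  let q : (EtOver.prodObj E₁ E₂).obj.left ⟶ V := E₂.property.1.fst' E₁.obj.hom
  have sq : IsPullback ((yon S).map p) ((yon S).map q) E₁.obj.hom E₂.obj.hom := by
    have := (E₂.property.1.isPullback' E₁.obj.hom).flip
    exact this
  have sqD := Groth.Agent.Lib.AlgSpace.isPullback_diag_yonProd sq
  refine ⟨Groth.Agent.Lib.AlgSpDecent.QS.compactSpace_of_isPullback hqs sqD, ?_⟩
  haveI : Mono (prod.lift p q) := by
    refine ⟨fun {Z} a b hab => (yon S).map_injective (sq.hom_ext ?_ ?_)⟩
    · rw [← Functor.map_comp, ← Functor.map_comp]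
      exact congrArg (fun f => (yon S).map f) (by simpa using congrArg (· ≫ (prod.fst : U ⨯ V ⟶ U)) hab)
    · rw [← Functor.map_comp, ← Functor.map_comp]
      exact congrArg (fun f => (yon S).map f) (by simpa using congrArg (· ≫ (prod.snd : U ⨯ V ⟶ V)) hab)
  haveI : Mono (prod.lift p q).left := inferInstanceAs (Mono ((Over.forget S).map (prod.lift p q)))
  exact quasiSeparatedSpace_of_quasiSeparated (prod.lift p q).left

instance hasPullbacks_qSite : HasPullbacks (QSite X) := by
  haveI : ∀ {A B C : QSite X} (f : A ⟶ C) (g : B ⟶ C), HasLimit (cospan f g) := fun {A B C} f g => by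
    let P := mkQ (EtOver.pullbackObj ((incl X).map f) ((incl X).map g))
      (isQcqsObj_pullback _ _ (ULift.down A).property (ULift.down B).property (ULift.down C).property)
    let a : P ⟶ A := (incl X).preimage (X := P) (EtOver.pullbackFst ((incl X).map f) ((incl X).map g))
    let b : P ⟶ B := (incl X).preimage (X := P) (EtOver.pullbackSnd ((incl X).map f) ((incl X).map g))
    have w : a ≫ f = b ≫ g := (incl X).map_injective (by
      simp only [Functor.map_comp, a, b, Functor.map_preimage]
      exact EtOver.pullback_condition _ _)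
    have sq : IsPullback a b f g := IsPullback.of_map (incl X) w (by
      simp only [a, b, Functor.map_preimage]
      exact EtOver.isPullback _ _)
    exact ⟨⟨⟨_, sq.isLimit⟩⟩⟩
  exact hasPullbacks_of_hasLimit_cospan _

variable [QuasiSeparatedSpace ↥S] (hqs : IsQuasiSeparatedSp X)

include hqs in
theorem hasBinaryProducts_qSite : HasBinaryProducts (QSite X) := by
  haveI : ∀ {A B : QSite X}, HasLimit (pair A B) := fun {A B} => by
    let P := mkQ (EtOver.prodObj ((incl X).obj A) ((incl X).obj B))
      (isQcqsObj_prod hqs _ _ (ULift.down A).property (ULift.down B).property)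
    let a : P ⟶ A := (incl X).preimage (X := P) (EtOver.prodFst _ _)
    let b : P ⟶ B := (incl X).preimage (X := P) (EtOver.prodSnd _ _)
    refine ⟨⟨⟨BinaryFan.mk a b, isLimitOfReflects (incl X)
      ((isLimitMapConeBinaryFanEquiv (incl X) a b).symm ?_)⟩⟩⟩
    exact IsLimit.ofIsoLimit (EtOver.prodIsLimit _ _) (BinaryFan.ext (Iso.refl _)
      (by simp only [BinaryFan.mk_fst, Iso.refl_hom, Category.id_comp]; exact ((incl X).map_preimage (X := P) _).symm) (by simp only [BinaryFan.mk_snd, Iso.refl_hom, Category.id_comp]; exact ((incl X).map_preimage (X := P) _).symm))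
  exact hasBinaryProducts_of_hasLimit_pair _

omit [QuasiSeparatedSpace ↥S] in
theorem qc_eps (E : QSite X) : ToposFin.IsQC (ToposFin.eps (qTop X) E) :=
  (qcSite_iff E).1 (isQCSite_qTop E)

include hqs in
theorem coherent_prod_eps (A B : QSite X) :
    ToposFin.IsCoherent (pullback (terminal.from (ToposFin.eps (qTop X) A)) (terminal.from (ToposFin.eps (qTop X) B))) := by
  haveI := hasBinaryProducts_qSite hqs
  have h : IsPullback ((Groth.CanonSheaf.ε (qTop X)).map (prod.fst : A ⨯ B ⟶ A))
      ((Groth.CanonSheaf.ε (qTop X)).map (prod.snd : A ⨯ B ⟶ B))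
      (terminal.from (ToposFin.eps (qTop X) A)) (terminal.from (ToposFin.eps (qTop X) B)) :=
    IsPullback.of_is_product' (isLimitOfHasBinaryProductOfPreservesLimit
      (Groth.CanonSheaf.ε (qTop X)) A B) terminalIsTerminal
  exact coherent_of_iso h.isoPullback (coherent_eps isQCSite_qTop (A ⨯ B))

include hqs in
theorem qsp_terminal {G : ToposFin.Sh (qTop X)} (hG : ToposFin.IsQS G) :
    QSP (qTop X) (terminal.from G) := by
  refine qsp_of_cover (gen_eps isQCSite_qTop) _ (fun p : Σ U : QSite X, G.obj.obj (op U) =>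
    Groth.CanonSheaf.hat G p.2) (ef_hats G) (fun p => qc_eps p.1) (fun p q => ?_) hG
  exact qs_of_iso (pullback.congrHom (terminal.hom_ext _ _) (terminal.hom_ext _ _))
    (coherent_prod_eps hqs p.1 q.1).2

include hqs in
theorem qsp_of_qs {G H : ToposFin.Sh (qTop X)} (hG : ToposFin.IsQS G) (f : G ⟶ H) : QSP (qTop X) f := by
  refine qsp_of_comp f (terminal.from H) ?_
  rw [terminal.comp_from]
  exact qsp_terminal hqs hG

include hqs in
theorem isAlgebraic_qTop : ToposFin.IsAlgebraic (qTop X) := by
  refine ⟨{K | ToposFin.IsCoherent K}, fun K hK => hK.1, fun A => ?_, ?_, ?_⟩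
  · obtain ⟨ι, F, π, hF, hπ⟩ := generating_eps (J := qTop X) A
    exact ⟨ι, F, π, fun i => by
      obtain ⟨E, hE⟩ := hF i
      exact hE ▸ coherent_eps isQCSite_qTop E, hπ⟩
  · intro K L M f g hK hL hM
    exact ⟨pullback f g, pullback.fst f g, pullback.snd f g,
      ⟨hM.2 _ _ f g hK.1 hL.1,
        qs_of_qsp (pullback.fst f g) ((QSP (qTop X)).pullback_fst f g (qsp_of_qs hqs hL.2 g)) hK.2⟩,
      IsPullback.of_hasPullback f g⟩
  · intro K L a b hK hL
    refine ⟨equalizer a b, equalizer.ι a b, equalizer.condition a b,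
      ⟨?_, qs_of_mono (equalizer.ι a b) hK.2⟩, ⟨equalizerIsEqualizer a b⟩⟩
    have hd : QCP (qTop X) (pullback.diagonal (terminal.from L)) := qsp_terminal hqs hL.2
    refine hd (pullback.lift a b (terminal.hom_ext _ _)) (equalizer.ι a b ≫ a) (equalizer.ι a b) ?_ hK.1
    refine ⟨⟨?_⟩, ⟨PullbackCone.IsLimit.mk _ (fun c => equalizer.lift c.snd ?_)
      (fun c => ?_) (fun c => equalizer.lift_ι _ _) (fun c m h1 h2 => ?_)⟩⟩
    · apply pullback.hom_ext
      · simp
      · simpa using equalizer.condition a b
    · have h1 := congrArg (· ≫ pullback.fst _ _) c.condition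
      have h2 := congrArg (· ≫ pullback.snd _ _) c.condition
      simp only [Category.assoc, pullback.diagonal_fst, pullback.diagonal_snd, Category.comp_id,
        pullback.lift_fst, pullback.lift_snd] at h1 h2
      exact h1.symm.trans h2
    · have h1 := congrArg (· ≫ pullback.fst _ _) c.condition
      simp only [Category.assoc, pullback.diagonal_fst, Category.comp_id, pullback.lift_fst] at h1
      rw [equalizer.lift_ι_assoc]
      exact h1.symm
    · exact equalizer.hom_ext (h2.trans (equalizer.lift_ι _ _).symm)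

include hqs in
/-- The final object is coherent. -/
theorem coherent_top {E₀ : EtOver X} (h₀ : IsQcqsObj X E₀) (hs : RepWith @Surjective E₀.obj.hom) :
    ToposFin.IsCoherent (⊤_ (ToposFin.Sh (qTop X))) := by
  let A : QSite X := mkQ E₀ h₀
  haveI : Epi (terminal.from (ToposFin.eps (qTop X) A)) := by
    refine ⟨fun {Z} a b hab => Sheaf.hom_ext (NatTrans.ext (funext fun E =>
      ConcreteCategory.hom_ext _ _ fun t => ?_))⟩
    obtain ⟨E⟩ := E
    let P := mkQ (EtOver.prodObj ((incl X).obj E) E₀) (isQcqsObj_prod hqs _ _ (ULift.down E).property h₀)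
    let v : P ⟶ E := (incl X).preimage (X := P) (EtOver.prodFst _ _)
    let r : P ⟶ A := (incl X).preimage (X := P) (EtOver.prodSnd _ _)
    have hcov : Sieve.ofArrows (fun _ : PUnit.{u + 1} => P) (fun _ => v) ∈ qTop X E := by
      refine (mem_qTop _).2 ((etTop X).superset_covering ?_ (ofArrows_mem_etTop
        (fun _ : PUnit.{u + 1} => (incl X).obj P) (fun _ => EtOver.prodFst _ _) fun x => ?_))
      · refine (Sieve.generate_le_iff _ _).2 ?_
        rintro _ _ ⟨i⟩
        have := Sieve.image_mem_functorPushforward (incl X) _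
          (Sieve.ofArrows_mk (fun _ : PUnit.{u + 1} => P) (fun _ => v) i)
        have e : (incl X).map v = EtOver.prodFst ((incl X).obj E) E₀ := (incl X).map_preimage (X := P) _
        exact e ▸ this
      · have hsurj : Surjective (EtOver.prodFst ((incl X).obj E) E₀).hom.left.left :=
          (AlgSp.repWith_yon_map_iff _ _).1 (Groth.Agent.Lib.AlgSpace.repWith_baseChange
            ((E₀.property.1.isPullback ((incl X).obj E).obj.hom)) hs)
        exact ⟨PUnit.unit, hsurj.surj x⟩
    refine Groth.CanonSheaf.sheaf_ext Z hcov fun V w hw => ?_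
    obtain ⟨i, c, rfl⟩ := (Sieve.mem_ofArrows_iff _ _ _).1 hw
    have key : ∀ (φ : ⊤_ (ToposFin.Sh (qTop X)) ⟶ Z), Z.obj.map (c ≫ v).op (φ.hom.app (op E) t) =
        Groth.CanonSheaf.pt V Z ((Groth.CanonSheaf.ε (qTop X)).map (c ≫ r) ≫ terminal.from _ ≫ φ) := fun φ => by
      rw [← Category.assoc, Groth.CanonSheaf.pt_comp, ← NatTrans.naturality_apply φ.hom]
      exact congrArg (φ.hom.app (op V)) (by
        haveI := CohomTop.topUnique (qTop X) (op V)
        exact Subsingleton.elim _ _)
    rw [key a, key b]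
    exact congrArg (fun φ => Groth.CanonSheaf.pt V Z ((Groth.CanonSheaf.ε (qTop X)).map (c ≫ r) ≫ φ)) hab
  refine ⟨qc_of_epi (terminal.from (ToposFin.eps (qTop X) A)) (qc_eps A), ?_⟩
  intro K L a b hK hL
  have ha : a = terminal.from K := terminal.hom_ext _ _
  have hb : b = terminal.from L := terminal.hom_ext _ _
  subst ha hb
  obtain ⟨ι, hι, e, he⟩ := IsQC.exists_finite hK (ef_hats K)
  obtain ⟨κ, hκ, e', he'⟩ := IsQC.exists_finite hL (ef_hats L)
  refine qc_pullback_of_covers _ _ he he' fun i k => ?_
  exact qc_of_iso (pullback.congrHom (terminal.hom_ext _ _) (terminal.hom_ext _ _))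
    (coherent_prod_eps hqs (e i).1 (e' k).1).1

end Groth.Agent.H8.QcqsSite
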