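import Groth.Agent.Lib.FreeAct.Basic
import Groth.Agent.Lib.AlgSpace.Diag
import Groth.Agent.Lib.DescAlg.EtaleFibre
import Mathlib.FieldTheory.IsSepClosed
import Mathlib.FieldTheory.Galois.Basic
import Mathlib.RingTheory.Etale.Field

/-!
# Field points of the quotient by a free action
-/

set_option autoImplicit false
set_option backward.isDefEq.respectTransparency false
set_option backward.isDefEq.respectTransparency.types false
set_option linter.style.haveILetI false

universe u

open CategoryTheory CategoryTheory.Limits AlgebraicGeometry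

namespace Groth.Agent.H8.QuotFieldPoint

open Lib.FreeAct (exists_inj_apply isOpenImmersion_inj eq_of_comp_eq)
open Lib.AlgSpace (quotMap)
open AlgSp (yon)

variable {S : Scheme.{u}} {U : Over S} {G : Type u} [Group G] (ρ : G →* Aut U)
  {c : Cofan (fun _ : G => U)} {s t : c.pt ⟶ U}

/-- Two points in one field with equal images differ by a translation. -/
theorem exists_translate (hc : IsColimit c) (hs : ∀ g, c.inj g ≫ s = 𝟙 U)
    (ht : ∀ g, c.inj g ≫ t = (ρ g).hom) (h : AlgSp.IsEtaleEqvRel s t)
    {T : Over S} [Subsingleton ↥T.left] [Nonempty ↥T.left] (a b : T ⟶ U)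
    (e : (yon S).map b ≫ quotMap s t = (yon S).map a ≫ quotMap s t) :
    ∃ g, b = a ≫ (ρ g).hom := by
  obtain ⟨r₀, h₁, h₂⟩ := (Lib.AlgSpace.isPullback_quot h.toIsEqvRel).exists_lift _ _ e
  obtain ⟨r, rfl⟩ := (yon S).map_surjective r₀
  have e₁ : r ≫ t = b := (yon S).map_injective (((yon S).map_comp r t).trans h₁)
  have e₂ : r ≫ s = a := (yon S).map_injective (((yon S).map_comp r s).trans h₂)
  obtain ⟨z⟩ := ‹Nonempty ↥T.left›
  obtain ⟨g, y, hy⟩ := exists_inj_apply hc (r.left z)
  haveI := isOpenImmersion_inj hc g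
  have hr : Set.range r.left ⊆ Set.range (c.inj g).left := by
    rintro _ ⟨v, rfl⟩
    exact ⟨y, hy.trans (congrArg _ (Subsingleton.elim z v))⟩
  let l : T ⟶ U := Over.homMk (IsOpenImmersion.lift (c.inj g).left r.left hr) (by
    rw [← Over.w (c.inj g), IsOpenImmersion.lift_fac_assoc, Over.w r])
  have hl : l ≫ c.inj g = r := Over.OverMorphism.ext (IsOpenImmersion.lift_fac _ _ _)
  refine ⟨g, ?_⟩
  rw [← e₁, ← e₂, ← hl, Category.assoc l, Category.assoc l, hs, ht, Category.comp_id]


/-- Galois data of a field point of the quotient. -/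
theorem exists_galois_data (hfree : ∀ (g : G) (x : U.left), g ≠ 1 →
      U.left.fromSpecResidueField x ≫ (ρ g).hom.left ≠ U.left.fromSpecResidueField x)
    (hc : IsColimit c) (hs : ∀ g, c.inj g ≫ s = 𝟙 U) (ht : ∀ g, c.inj g ≫ t = (ρ g).hom)
    (k : Type u) [Field k] (σ : Spec (CommRingCat.of k) ⟶ S)
    (ξ : (yon S).obj (Over.mk σ) ⟶ QuotSh.quot Scheme.fppfPrecoverage s t) :
    ∃ (k' : Type u) (_ : Field k') (_ : Algebra k k') (_ : FiniteDimensional k k') (_ : IsGalois k k')
      (H : Subgroup G) (_ : Finite H) (e : H ≃* (k' ≃ₐ[k] k'))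
      (x' : Over.mk (Spec.map (CommRingCat.ofHom (algebraMap k k')) ≫ σ) ⟶ U),
      (∀ h : H, Spec.map (CommRingCat.ofHom (e h).symm.toRingEquiv.toRingHom) ≫ x'.left =
        x'.left ≫ (ρ (h : G)).hom.left) ∧
      (yon S).map x' ≫ quotMap s t =
        (yon S).map (Over.homMk (Spec.map (CommRingCat.ofHom (algebraMap k k'))) :
          Over.mk (Spec.map (CommRingCat.ofHom (algebraMap k k')) ≫ σ) ⟶ Over.mk σ) ≫ ξ := by
  have h := Lib.FreeAct.isEtaleEqvRel ρ hfree hs ht hc
  have hp := Lib.AlgSpace.isPresentation_quot h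
  obtain ⟨P, e, ν, sq⟩ := Lib.AlgSpace.exists_isPullback_yon (Lib.AlgSpace.representable_diag_quot h)
    (quotMap s t) ξ
  haveI : Etale ν.left := Lib.AlgSpace.repWith_property hp.etale sq
  haveI : Surjective ν.left := Lib.AlgSpace.repWith_property hp.surjective sq
  have hπρ : ∀ g, (yon S).map (ρ g).hom ≫ quotMap s t = quotMap s t := fun g => by
    have w := congrArg ((yon S).map (c.inj g) ≫ ·) (Lib.AlgSpace.quotMap_condition s t)
    simp only [← Category.assoc, ← Functor.map_comp, hs, ht, CategoryTheory.Functor.map_id, Category.id_comp] at w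
    exact w.symm
  obtain ⟨x, -⟩ := ν.left.surjective (IsLocalRing.closedPoint k)
  let L := P.left.residueField x
  let i₀ := P.left.fromSpecResidueField x
  let φ : CommRingCat.of k ⟶ L := Spec.preimage (i₀ ≫ ν.left)
  have hφ : Spec.map φ = i₀ ≫ ν.left := Spec.map_preimage _
  letI : Algebra k L := φ.hom.toAlgebra
  have hLe : Algebra.Etale k L := by
    haveI : Etale (Spec.map (ν.left.residueFieldMap x)) :=
      HasRingHomProperty.Spec_iff.2 (Lib.DescAlg.EtaleFibre.residueFieldMap_etale ν.left x)
    haveI : IsIso ((Spec (CommRingCat.of k)).fromSpecResidueField (ν.left x)) := by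
      haveI : Surjective ((Spec (CommRingCat.of k)).fromSpecResidueField (ν.left x)) :=
        ⟨fun q => ⟨default, @Subsingleton.elim (PrimeSpectrum k) _ _ _⟩⟩
      haveI : IsClosedImmersion ((Spec (CommRingCat.of k)).fromSpecResidueField (ν.left x)) :=
        isClosed_singleton_iff_isClosedImmersion.1
          (show IsClosed ({ν.left x} : Set ↥(Spec (CommRingCat.of k))) from by
            rw [show ({ν.left x} : Set ↥(Spec (CommRingCat.of k))) = Set.univ from
              Set.eq_univ_iff_forall.2 fun q => Set.mem_singleton_iff.2 (@Subsingleton.elim (PrimeSpectrum k) _ _ _)]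
            exact isClosed_univ)
      exact isIso_of_isClosedImmersion_of_surjective _
    have h : Etale (Spec.map φ) := by
      rw [hφ, ← Scheme.Hom.SpecMap_residueFieldMap_fromSpecResidueField]
      exact inferInstanceAs (Etale (Spec.map (ν.left.residueFieldMap x) ≫
        (Spec (CommRingCat.of k)).fromSpecResidueField (ν.left x)))
    exact HasRingHomProperty.Spec_iff.1 h
  haveI : Algebra.IsSeparable k L := Algebra.FormallyUnramified.isSeparable k L
  haveI : Module.Finite k L := Algebra.FormallyUnramified.finite_of_free k L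
  let T : Over S := Over.mk (Spec.map (CommRingCat.ofHom (algebraMap k L)) ≫ σ)
  let νT : T ⟶ Over.mk σ := Over.homMk (Spec.map (CommRingCat.ofHom (algebraMap k L)))
  let i : T ⟶ P := Over.homMk i₀ (by
    rw [← Over.w ν, ← Category.assoc, ← hφ]; rfl)
  have hi : i ≫ ν = νT := Over.OverMorphism.ext hφ.symm
  let a : T ⟶ U := i ≫ e
  have ha : (yon S).map a ≫ quotMap s t = (yon S).map νT ≫ ξ := by
    rw [← hi, Functor.map_comp, Functor.map_comp, Category.assoc, Category.assoc, sq.w]
  -- conjugates
  obtain ⟨ω⟩ : Nonempty (L →ₐ[k] SeparableClosure k) := ⟨IsSepClosed.lift⟩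
  have hN : Normal k ω.fieldRange := by
    refine IntermediateField.normal_iff_forall_map_le.2 fun τ => ?_
    rintro _ ⟨_, ⟨l, rfl⟩, rfl⟩
    let T₁ : Over S := Over.mk (Spec.map (CommRingCat.ofHom (algebraMap k (SeparableClosure k))) ≫ σ)
    let q : ∀ ω' : L →ₐ[k] SeparableClosure k, T₁ ⟶ T := fun ω' =>
      Over.homMk (Spec.map (CommRingCat.ofHom ω'.toRingHom)) (by
        show Spec.map _ ≫ Spec.map _ ≫ σ = Spec.map _ ≫ σ
        rw [← Category.assoc, ← Spec.map_comp]
        congr 2
        exact CommRingCat.hom_ext (RingHom.ext fun r => ω'.commutes r))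
    have hq : ∀ ω', q ω' ≫ νT = Over.homMk (Spec.map (CommRingCat.ofHom (algebraMap k (SeparableClosure k)))) :=
      fun ω' => Over.OverMorphism.ext (by
        show Spec.map _ ≫ Spec.map _ = Spec.map _
        rw [← Spec.map_comp]
        congr 1
        exact CommRingCat.hom_ext (RingHom.ext fun r => ω'.commutes r))
    haveI : Subsingleton ↥T₁.left := inferInstanceAs (Subsingleton (PrimeSpectrum (SeparableClosure k)))
    haveI : Nonempty ↥T₁.left := ⟨IsLocalRing.closedPoint (SeparableClosure k)⟩
    have hqa : ∀ ω' : L →ₐ[k] SeparableClosure k, (yon S).map (q ω' ≫ a) ≫ quotMap s t =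
        (yon S).map (Over.homMk (Spec.map (CommRingCat.ofHom (algebraMap k (SeparableClosure k))))) ≫ ξ := fun ω' =>
      (congrArg (· ≫ quotMap s t) ((yon S).map_comp (q ω') a)).trans
        ((Category.assoc _ _ _).trans ((congrArg ((yon S).map (q ω') ≫ ·) ha).trans
          ((Category.assoc _ _ _).symm.trans (congrArg (· ≫ ξ)
            (((yon S).map_comp _ _).symm.trans (congrArg (yon S).map (hq ω')))))))
    obtain ⟨g, hg⟩ := exists_translate ρ hc hs ht h (q ω ≫ a) (q (τ.comp ω) ≫ a)
      ((hqa _).trans (hqa _).symm)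
    have hg' : q ω ≫ i ≫ e ≫ (ρ g).hom = q (τ.comp ω) ≫ i ≫ e := by
      simpa only [a, Category.assoc] using hg.symm
    obtain ⟨d₀, hd₁, hd₂⟩ := sq.exists_lift ((yon S).map (e ≫ (ρ g).hom)) ((yon S).map ν) (by
      rw [Functor.map_comp, Category.assoc, hπρ, sq.w])
    obtain ⟨d, rfl⟩ := (yon S).map_surjective d₀
    have hd₁' : d ≫ e = e ≫ (ρ g).hom := (yon S).map_injective (((yon S).map_comp d e).trans hd₁)
    have hd₂' : d ≫ ν = ν := (yon S).map_injective (((yon S).map_comp d ν).trans hd₂)
    have key : q ω ≫ i ≫ d = q (τ.comp ω) ≫ i := by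
      apply (yon S).map_injective
      refine sq.hom_ext ?_ ?_
      · rw [← (yon S).map_comp, ← (yon S).map_comp]
        refine congrArg (yon S).map ?_
        rw [Category.assoc, Category.assoc, hd₁', Category.assoc]
        exact hg'
      · rw [← (yon S).map_comp, ← (yon S).map_comp]
        refine congrArg (yon S).map ?_
        rw [Category.assoc, Category.assoc, hd₂', Category.assoc, hi, hq, hq]
    let xf := Scheme.SpecToEquivOfField (L : Type u) P.left (i ≫ d).left
    have hf' : Spec.map xf.2 ≫ P.left.fromSpecResidueField xf.1 = (i ≫ d).left :=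
      (Scheme.SpecToEquivOfField (L : Type u) P.left).symm_apply_apply (i ≫ d).left
    obtain ⟨x₁, f⟩ := xf
    have kl : Spec.map (CommRingCat.ofHom ω.toRingHom) ≫ (i ≫ d).left =
        Spec.map (CommRingCat.ofHom (τ.comp ω).toRingHom) ≫ i₀ := congrArg (fun m => m.left) key
    rw [← hf'] at kl
    obtain rfl : x₁ = x := by
      have w := congrArg (fun m => m (IsLocalRing.closedPoint (SeparableClosure k))) kl
      simp only [Scheme.Hom.comp_apply, i₀, Scheme.fromSpecResidueField_apply] at w
      exact w.trans (Scheme.fromSpecResidueField_apply _ _)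
    rw [← Category.assoc, ← Spec.map_comp] at kl
    have kl' := congrArg CommRingCat.Hom.hom (Spec.map_injective ((cancel_mono _).1 kl))
    exact ⟨f l, RingHom.congr_fun kl' l⟩
  let eL : L ≃ₐ[k] ω.fieldRange := AlgEquiv.ofInjectiveField ω
  haveI : Normal k L := Normal.of_algEquiv eL.symm
  haveI : IsGalois k L := { to_isSeparable := inferInstance, to_normal := inferInstance }
  -- the decomposition group
  let Φ : (L ≃ₐ[k] L) → (T ⟶ T) := fun γ => Over.homMk (Spec.map (CommRingCat.ofHom γ.symm.toRingEquiv.toRingHom)) (by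
    show Spec.map _ ≫ Spec.map _ ≫ σ = Spec.map _ ≫ σ
    rw [← Category.assoc, ← Spec.map_comp]
    congr 2
    exact CommRingCat.hom_ext (RingHom.ext fun r => γ.symm.commutes r))
  have hΦν : ∀ γ, Φ γ ≫ νT = νT := fun γ => Over.OverMorphism.ext (by
    show Spec.map _ ≫ Spec.map _ = Spec.map _
    rw [← Spec.map_comp]
    congr 1
    exact CommRingCat.hom_ext (RingHom.ext fun r => γ.symm.commutes r))
  have hΦmul : ∀ γ δ, Φ (γ * δ) = Φ δ ≫ Φ γ := fun γ δ => Over.OverMorphism.ext (by
    show Spec.map _ = Spec.map _ ≫ Spec.map _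
    rw [← Spec.map_comp]
    rfl)
  haveI : Subsingleton ↥T.left := inferInstanceAs (Subsingleton (PrimeSpectrum L))
  haveI : Nonempty ↥T.left := ⟨IsLocalRing.closedPoint L⟩
  have hex : ∀ γ, ∃ g, Φ γ ≫ a = a ≫ (ρ g).hom := fun γ => exists_translate ρ hc hs ht h a (Φ γ ≫ a) (by
    rw [Functor.map_comp, Category.assoc, ha, ← Category.assoc, ← Functor.map_comp, hΦν])
  choose θ hθ using hex
  have hmul : ∀ γ δ, θ (γ * δ) = θ γ * θ δ := fun γ δ =>
    eq_of_comp_eq ρ hfree a (IsLocalRing.closedPoint L) (by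
      rw [← hθ, hΦmul, Category.assoc, hθ, ← Category.assoc, hθ, Category.assoc, map_mul, Aut.Aut_mul_def]
      rfl)
  let θ' : (L ≃ₐ[k] L) →* G := MonoidHom.mk' θ hmul
  have hinj : Function.Injective θ' := (injective_iff_map_eq_one θ').2 fun γ hγ => by
    have w : Φ γ ≫ a = a := by
      rw [hθ, show θ γ = 1 from hγ, map_one]
      exact Category.comp_id a
    have w' : Φ γ ≫ i = i := (yon S).map_injective (sq.hom_ext
      (by rw [← Functor.map_comp, ← Functor.map_comp, Category.assoc]; exact congrArg _ w)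
      (by rw [← Functor.map_comp, ← Functor.map_comp, Category.assoc, hi, hΦν]))
    have w'' : Spec.map (CommRingCat.ofHom γ.symm.toRingEquiv.toRingHom) ≫ i₀ = 𝟙 _ ≫ i₀ :=
      (congrArg (fun m => m.left) w').trans (Category.id_comp _).symm
    have e' := congrArg CommRingCat.Hom.hom (Spec.map_injective (((cancel_mono _).1 w'').trans (Spec.map_id _).symm))
    refine AlgEquiv.ext fun l => ?_
    have := RingHom.congr_fun e' (γ l)
    exact ((γ.symm_apply_apply l).symm.trans this).symm
  refine ⟨L, inferInstance, inferInstance, inferInstance, inferInstance, θ'.range,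
    Finite.of_equiv _ (MonoidHom.ofInjective hinj).toEquiv, (MonoidHom.ofInjective hinj).symm, a,
    fun g => ?_, ha⟩
  obtain ⟨γ, hγ⟩ := (MonoidHom.ofInjective hinj).surjective g
  rw [← hγ, MulEquiv.symm_apply_apply, MonoidHom.ofInjective_apply]
  exact congrArg (fun m => m.left) (hθ γ)

end Groth.Agent.H8.QuotFieldPoint
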