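import Groth.Agent.H8.QcqsSite
import Groth.Agent.Lib.Modules.ToSheaf

/-!
# Sections over quasi-compact quasi-separated objects commute with filtered colimits of modules
-/

set_option autoImplicit false
set_option backward.isDefEq.respectTransparency false
set_option backward.isDefEq.respectTransparency.types false
set_option linter.style.haveILetI false

universe u

open CategoryTheory CategoryTheory.Limits AlgebraicGeometry Opposite AlgSp
open Groth.Agent.Lib.EtMod Groth.TFin Groth.Agent.H8.QcqsSite
open Groth.CanonSheaf (pt hat pt_hat hat_comp pt_comp)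

namespace Groth.Agent.H8.SectColim

variable {S : Scheme.{u}} {X : Sp S}

/-- A module as a sheaf of sets on the qcqs site. -/
noncomputable abbrev toSet : ModEt X ⥤ ToposFin.Sh (qTop X) :=
  toAbEt X ⋙ (incl X).sheafPushforwardContinuous AddCommGrpCat.{u + 1} (qTop X) (etTop X) ⋙
    sheafCompose (qTop X) (forget AddCommGrpCat.{u + 1})

variable {Λ : Type (u + 1)} [SmallCategory Λ] [IsFiltered Λ] (D : Λ ⥤ ModEt X)

theorem preservesColimit_toSet : PreservesColimit D (toSet (X := X)) := by
  haveI : PreservesColimitsOfShape Λ (toAbEt X) :=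
    inferInstanceAs (PreservesColimitsOfShape Λ (SheafOfModules.toSheaf (OEtRing X)))
  infer_instance

variable {D} {c : Cocone D} (hc : IsColimit c) {E : EtOver X} (hE : IsQcqsObj X E)

include hc hE in
/-- A section of the colimit comes from a stage. -/
theorem exists_rep (m : sectModEt c.pt E) :
    ∃ (i : Λ) (t : sectModEt (D.obj i) E), secMap (c.ι.app i) E t = m := by
  haveI := preservesColimit_toSet D
  let hcs := isColimitOfPreserves (toSet (X := X)) hc
  let e := hcs.coconePointUniqueUpToIso (colimit.isColimit (D ⋙ toSet))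
  obtain ⟨i, s, hs⟩ := coherent_lift (D ⋙ toSet) (gen_eps isQCSite_qTop)
    (coherent_eps isQCSite_qTop (mkQ E hE)) (hat (toSet.obj c.pt) (U := mkQ E hE) m ≫ e.hom)
  refine ⟨i, pt (mkQ E hE) ((D ⋙ toSet).obj i) s, ?_⟩
  have h : s ≫ toSet.map (c.ι.app i) = hat (toSet.obj c.pt) (U := mkQ E hE) m := by
    rw [← cancel_mono e.hom, Category.assoc, ← hs]
    congr 1
    exact hcs.comp_coconePointUniqueUpToIso_hom (colimit.isColimit (D ⋙ toSet)) i
  have h' := congrArg (pt (mkQ E hE) (toSet.obj c.pt)) h
  rw [pt_hat, pt_comp] at h'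
  exact h'

include hc hE in
/-- Sections agreeing in the colimit agree at a stage. -/
theorem exists_eq {i : Λ} (t t' : sectModEt (D.obj i) E)
    (h : secMap (c.ι.app i) E t = secMap (c.ι.app i) E t') :
    ∃ (k : Λ) (a : i ⟶ k), secMap (D.map a) E t = secMap (D.map a) E t' := by
  haveI := preservesColimit_toSet D
  let hcs := isColimitOfPreserves (toSet (X := X)) hc
  let e := hcs.coconePointUniqueUpToIso (colimit.isColimit (D ⋙ toSet))
  have he : toSet.map (c.ι.app i) ≫ e.hom = colimit.ι (D ⋙ toSet) i :=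
    hcs.comp_coconePointUniqueUpToIso_hom (colimit.isColimit (D ⋙ toSet)) i
  have key : hat ((D ⋙ toSet).obj i) (U := mkQ E hE) t ≫ toSet.map (c.ι.app i) =
      hat ((D ⋙ toSet).obj i) (U := mkQ E hE) t' ≫ toSet.map (c.ι.app i) :=
    (pt (mkQ E hE) (toSet.obj c.pt)).injective (by
      rw [pt_comp, pt_comp, pt_hat, pt_hat]
      exact h)
  obtain ⟨k, a, ha⟩ := hom_eq (D ⋙ toSet) ((qcSite_iff _).1 (isQCSite_qTop (mkQ E hE)))
    (hat ((D ⋙ toSet).obj i) (U := mkQ E hE) t) (hat ((D ⋙ toSet).obj i) (U := mkQ E hE) t')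
    (by rw [← he, ← Category.assoc, ← Category.assoc, key])
  refine ⟨k, a, ?_⟩
  have h' := congrArg (pt (mkQ E hE) ((D ⋙ toSet).obj k)) ha
  rw [pt_comp, pt_comp, pt_hat, pt_hat] at h'
  exact h'

include hc hE in
/-- Finitely many sections killed in the colimit are killed at a stage. -/
theorem exists_eq_family {ι : Type*} [Finite ι] {i : Λ} (t t' : ι → sectModEt (D.obj i) E)
    (h : ∀ k, secMap (c.ι.app i) E (t k) = secMap (c.ι.app i) E (t' k)) :
    ∃ (j : Λ) (a : i ⟶ j), ∀ k, secMap (D.map a) E (t k) = secMap (D.map a) E (t' k) := by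
  choose j a ha using fun k => exists_eq hc hE (t k) (t' k) (h k)
  haveI := Fintype.ofFinite ι
  classical
  obtain ⟨m, T, hT⟩ := IsFiltered.sup_exists (insert i (Finset.univ.image j))
    (Finset.univ.image fun k => (⟨i, j k, by simp, by simp, a k⟩ :
      Σ' (X Y : Λ) (_ : X ∈ insert i (Finset.univ.image j)) (_ : Y ∈ insert i (Finset.univ.image j)), X ⟶ Y))
  refine ⟨m, T (by simp), fun k => ?_⟩
  have hk : a k ≫ T (by simp : j k ∈ insert i (Finset.univ.image j)) = T (by simp) :=
    hT (X := i) (Y := j k) (by simp) (by simp) (Finset.mem_image_of_mem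
      (fun k => (⟨i, j k, by simp, by simp, a k⟩ : Σ' (X Y : Λ) (_ : X ∈ insert i (Finset.univ.image j))
        (_ : Y ∈ insert i (Finset.univ.image j)), X ⟶ Y)) (Finset.mem_univ k))
  rw [← hk, Functor.map_comp, secMap_comp, secMap_comp, ha k]

include hc hE in
/-- Finitely many sections of the colimit come from one stage. -/
theorem exists_rep_family {ι : Type*} [Finite ι] (m : ι → sectModEt c.pt E) :
    ∃ (i : Λ) (t : ι → sectModEt (D.obj i) E), ∀ k, secMap (c.ι.app i) E (t k) = m k := by
  choose j t ht using fun k => exists_rep hc hE (m k)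
  haveI := Fintype.ofFinite ι
  classical
  obtain ⟨i, hi⟩ := IsFiltered.sup_objs_exists (Finset.univ.image j)
  let f : ∀ k, j k ⟶ i := fun k => (hi (Finset.mem_image_of_mem j (Finset.mem_univ k))).some
  refine ⟨i, fun k => secMap (D.map (f k)) E (t k), fun k => ?_⟩
  rw [← secMap_comp, c.w]
  exact ht k

end Groth.Agent.H8.SectColim
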