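import Groth.Agent.Lib.ToposFin.CohomTop
import Mathlib.CategoryTheory.Sites.DenseSubsite.InducedTopology
import Mathlib.Algebra.Homology.DerivedCategory.Ext.MapBijective

/-!
# Transporting acyclicity for filtered colimits along equivalences of categories of sheaves
-/

universe u v v' w

open CategoryTheory CategoryTheory.Limits Opposite CategoryTheory.Abelian
open Groth.Agent.Lib.ToposFin

namespace Groth.Agent.H8.SiteTransport

variable {A : Type v} [Category.{u} A] [Abelian A] [HasExt.{u} A]
  {B : Type v'} [Category.{u} B] [Abelian B] [HasExt.{u} B]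
  {Λ : Type u} [SmallCategory Λ] [IsFiltered Λ] [HasColimitsOfShape Λ A] [HasColimitsOfShape Λ B]

omit [IsFiltered Λ] in
theorem colimAcyclic_of_isEquivalence [EnoughInjectives A] (R : A ⥤ B) [R.IsEquivalence] [R.Additive]
    (P : A) (h : ExtColim.ColimAcyclic Λ (R.obj P)) : ExtColim.ColimAcyclic Λ P := by
  refine ⟨fun D => ⟨fun x => ?_, fun i y hy => ?_⟩, fun E hE n => ?_⟩
  · obtain ⟨s, rfl⟩ := (Ext.mk₀_bijective _ _).2 x
    obtain ⟨i, y, hy⟩ := (h.good₀ (D ⋙ R)).1 (Ext.mk₀ (R.map s ≫ (preservesColimitIso R D).hom))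
    obtain ⟨t, rfl⟩ := (Ext.mk₀_bijective _ _).2 y
    refine ⟨i, Ext.mk₀ (R.preimage t), ?_⟩
    rw [ExtColim.push, Ext.mk₀_comp_mk₀] at hy ⊢
    have hy' := (Ext.mk₀_bijective _ _).1 hy
    congr 1
    refine R.map_injective ?_
    rw [R.map_comp, R.map_preimage, ← cancel_mono (preservesColimitIso R D).hom, Category.assoc,
      ι_preservesColimitIso_hom]
    exact hy'
  · obtain ⟨t, rfl⟩ := (Ext.mk₀_bijective _ _).2 y
    rw [ExtColim.push, Ext.mk₀_comp_mk₀, ← Ext.mk₀_zero] at hy
    have hy' := (Ext.mk₀_bijective _ _).1 hy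
    have hz : R.map t ≫ colimit.ι (D ⋙ R) i = 0 := by
      rw [← ι_preservesColimitIso_hom, ← Category.assoc, ← R.map_comp, hy', R.map_zero, zero_comp]
    obtain ⟨k, a, ha⟩ := (h.good₀ (D ⋙ R)).2 i (Ext.mk₀ (R.map t)) (by
      rw [ExtColim.push, Ext.mk₀_comp_mk₀, hz, Ext.mk₀_zero])
    refine ⟨k, a, ?_⟩
    rw [ExtColim.push, Ext.mk₀_comp_mk₀, ← Ext.mk₀_zero] at ha ⊢
    have ha' := (Ext.mk₀_bijective _ _).1 ha
    congr 1
    exact R.map_injective (by rw [R.map_comp, R.map_zero]; exact ha')
  · haveI := h.acyclic (E ⋙ R) (fun i => haveI := hE i; inferInstanceAs (Injective (R.obj (E.obj i)))) n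
    refine subsingleton_of_forall_eq 0 fun x => ?_
    refine (R.mapExt_bijective_of_preservesInjectiveObjects P (colimit E) (n + 1)).1 ?_
    rw [map_zero]
    have := congrArg (fun z => z.comp (Ext.mk₀ (preservesColimitIso R E).inv) (add_zero (n + 1)))
      (Subsingleton.elim ((R.mapExtAddHom P (colimit E) (n + 1) x).comp
        (Ext.mk₀ (preservesColimitIso R E).hom) (add_zero (n + 1))) 0)
    simpa [Ext.comp_assoc_of_second_deg_zero, Ext.mk₀_comp_mk₀] using this

section Sites

variable {C : Type*} [Category* C] {D : Type*} [Category* D] (G : C ⥤ D)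
  (J : GrothendieckTopology C) (K : GrothendieckTopology D)
  (A' : Type*) [Category* A'] [G.IsContinuous J K] [G.IsCocontinuous J K]
  [∀ (F : Cᵒᵖ ⥤ A'), G.op.HasPointwiseRightKanExtension F]
  [HasWeakSheafify J A'] [HasWeakSheafify K A']

/-- The restriction of a constant sheaf is constant. -/
noncomputable def constantRestrIso (a : A') :
    (G.sheafPushforwardContinuous A' J K).obj ((constantSheaf K A').obj a) ≅ (constantSheaf J A').obj a :=
  ((G.pushforwardContinuousSheafificationCompatibility A' J K).app ((Functor.const Dᵒᵖ).obj a)).symm ≪≫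
    (presheafToSheaf J A').mapIso (NatIso.ofComponents (fun _ => Iso.refl _) (by intros; simp))

end Sites

end Groth.Agent.H8.SiteTransport
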