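import Groth.Agent.H8.PullModEt
import Groth.Agent.Lib.EtMod.PushFP
import Groth.Prelude.Def_AlgSpD
import Mathlib.Algebra.Category.ModuleCat.Sheaf.PullbackFree

/-!
# Inverse images commute with restriction to slices
-/

set_option autoImplicit false
set_option backward.isDefEq.respectTransparency false
set_option backward.isDefEq.respectTransparency.types false

universe u

open CategoryTheory CategoryTheory.Limits AlgebraicGeometry Opposite AlgSp

namespace Groth.Agent.H8.SlicePull

variable {S : Scheme.{u}} {X Y : Sp S} {f : X ⟶ Y} (hf : Representable f) (E : EtOver Y)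

/-- Base change preserves products of the small etale site. -/
noncomputable def bcProdIsLimit (V : EtOver Y) :
    IsLimit (BinaryFan.mk ((EtOver.bc hf).map (EtOver.prodFst E V))
      ((EtOver.bc hf).map (EtOver.prodSnd E V))) := by
  have key : ∀ {T : EtOver X} (a : T ⟶ (EtOver.bc hf).obj E) (b : T ⟶ (EtOver.bc hf).obj V),
      (yon S).map (b.hom.left ≫ hf.snd V.obj.hom) ≫ V.obj.hom =
        (yon S).map (a.hom.left ≫ hf.snd E.obj.hom) ≫ E.obj.hom := fun a b => by
    rw [Functor.map_comp, Functor.map_comp, Category.assoc, Category.assoc, ← hf.w, ← hf.w,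
      ← Category.assoc, ← Category.assoc]
    exact congrArg (· ≫ f) ((EtOver.w b).trans (EtOver.w a).symm)
  let l : ∀ {T : EtOver X} (a : T ⟶ (EtOver.bc hf).obj E) (b : T ⟶ (EtOver.bc hf).obj V),
      T.obj.left ⟶ (EtOver.prodObj E V).obj.left := fun a b =>
    V.property.1.lift' (b.hom.left ≫ hf.snd V.obj.hom) (a.hom.left ≫ hf.snd E.obj.hom) (key a b)
  have hl : ∀ {T : EtOver X} (a : T ⟶ (EtOver.bc hf).obj E) (b : T ⟶ (EtOver.bc hf).obj V),
      T.obj.hom ≫ f = (yon S).map (l a b) ≫ (EtOver.prodObj E V).obj.hom := fun a b => by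
    change _ = (yon S).map (l a b) ≫ (yon S).map (V.property.1.snd E.obj.hom) ≫ E.obj.hom
    rw [← Category.assoc, ← Functor.map_comp, Functor.relativelyRepresentable.lift'_snd,
      Functor.map_comp, Category.assoc, ← hf.w, ← Category.assoc]
    exact congrArg (· ≫ f) (EtOver.w a).symm
  refine BinaryFan.IsLimit.mk _
    (fun {T} a b => EtOver.homMk (E' := (EtOver.bc hf).obj (EtOver.prodObj E V))
      (hf.lift T.obj.hom (l a b) (hl a b)) (hf.lift_fst _ _ _)) ?_ ?_ ?_
  · intro T a b
    refine EtOver.hom_ext _ _ (hf.hom_ext ?_ ?_)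
    · refine Eq.trans ?_ (EtOver.w a).symm
      exact EtOver.w (EtOver.homMk (E' := (EtOver.bc hf).obj (EtOver.prodObj E V))
        (hf.lift T.obj.hom (l a b) (hl a b)) (hf.lift_fst _ _ _) ≫ (EtOver.bc hf).map (EtOver.prodFst E V))
    · change (hf.lift T.obj.hom (l a b) (hl a b) ≫ (EtOver.bcMap hf (EtOver.prodFst E V)).hom.left) ≫ _ = _
      rw [Category.assoc, EtOver.bcMap_snd, ← Category.assoc, hf.lift_snd]
      exact Functor.relativelyRepresentable.lift'_snd _ _ _ _
  · intro T a b
    refine EtOver.hom_ext _ _ (hf.hom_ext ?_ ?_)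
    · refine Eq.trans ?_ (EtOver.w b).symm
      exact EtOver.w (EtOver.homMk (E' := (EtOver.bc hf).obj (EtOver.prodObj E V))
        (hf.lift T.obj.hom (l a b) (hl a b)) (hf.lift_fst _ _ _) ≫ (EtOver.bc hf).map (EtOver.prodSnd E V))
    · change (hf.lift T.obj.hom (l a b) (hl a b) ≫ (EtOver.bcMap hf (EtOver.prodSnd E V)).hom.left) ≫ _ = _
      rw [Category.assoc, EtOver.bcMap_snd, ← Category.assoc, hf.lift_snd]
      exact Functor.relativelyRepresentable.lift'_fst _ _ _ _
  · intro T a b m h₁ h₂
    refine EtOver.hom_ext _ _ (hf.hom_ext ?_ ?_)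
    · exact (EtOver.w m).trans (hf.lift_fst _ _ _).symm
    · refine Eq.trans ?_ (hf.lift_snd _ _ _).symm
      refine Functor.relativelyRepresentable.hom_ext' _ ?_ ?_
      · refine Eq.trans ?_ (Functor.relativelyRepresentable.lift'_fst _ _ _ _).symm
        rw [← congrArg (fun k : T ⟶ (EtOver.bc hf).obj V => k.hom.left) h₂]
        change _ = (m.hom.left ≫ (EtOver.bcMap hf (EtOver.prodSnd E V)).hom.left) ≫ _
        rw [Category.assoc, Category.assoc, EtOver.bcMap_snd]
        rfl
      · refine Eq.trans ?_ (Functor.relativelyRepresentable.lift'_snd _ _ _ _).symm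
        rw [← congrArg (fun k : T ⟶ (EtOver.bc hf).obj E => k.hom.left) h₁]
        change _ = (m.hom.left ≫ (EtOver.bcMap hf (EtOver.prodFst E V)).hom.left) ≫ _
        rw [Category.assoc, Category.assoc, EtOver.bcMap_snd]
        rfl

instance preservesProd_bc (V : EtOver Y) : PreservesLimit (pair E V) (EtOver.bc hf) :=
  preservesLimit_of_preserves_limit_cone (EtOver.prodIsLimit E V)
    ((isLimitMapConeBinaryFanEquiv _ _ _).symm (bcProdIsLimit hf E V))

instance preservesOneHypercovers_bc :
    Functor.PreservesOneHypercovers.{u + 1} (EtOver.bc hf) (etTop Y) (etTop X) :=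
  Functor.PreservesOneHypercovers.of_coverPreserving (CoverPreserving.of_isContinuous _ _ _)

/-- The base change functor between slices. -/
noncomputable abbrev sliceBC : Over E ⥤ Over ((EtOver.bc hf).obj E) := Over.post (EtOver.bc hf)

/-- The structure map between slices. -/
noncomputable def sliceRingHom :
    (OEtRing Y).over E ⟶ ((sliceBC hf E).sheafPushforwardContinuous RingCat.{u + 1} ((etTop Y).over E)
      ((etTop X).over ((EtOver.bc hf).obj E))).obj ((OEtRing X).over ((EtOver.bc hf).obj E)) :=
  ObjectProperty.homMk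
    { app := fun U => (bcRingHom hf).hom.app (op U.unop.left)
      naturality := fun U U' g => (bcRingHom hf).hom.naturality g.unop.left.op }

/-- The two ways of going from the site of `Y` to the slice over the base change agree. -/
noncomputable def starIso :
    Over.star E ⋙ sliceBC hf E ≅ EtOver.bc hf ⋙ Over.star ((EtOver.bc hf).obj E) :=
  NatIso.ofComponents
    (fun V => Over.isoMk (PreservesLimitPair.iso (EtOver.bc hf) E V) (by
      change _ ≫ ((Over.star ((EtOver.bc hf).obj E)).obj ((EtOver.bc hf).obj V)).hom =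
        (EtOver.bc hf).map ((Over.star E).obj V).hom
      simp [PreservesLimitPair.iso_hom]))
    (fun {V V'} g => by
      ext1
      refine Limits.prod.hom_ext ?_ ?_ <;>
        simp [PreservesLimitPair.iso_hom, ← Functor.map_comp])

instance isContinuous_starSlice :
    (Over.star E ⋙ sliceBC hf E).IsContinuous (etTop Y) ((etTop X).over ((EtOver.bc hf).obj E)) :=
  Functor.isContinuous_comp _ _ _ ((etTop Y).over E) _

instance isContinuous_bcStar :
    (EtOver.bc hf ⋙ Over.star ((EtOver.bc hf).obj E)).IsContinuous (etTop Y)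
      ((etTop X).over ((EtOver.bc hf).obj E)) :=
  Functor.isContinuous_comp _ _ _ (etTop X) _

/-- Direct images commute with extensions from slices. -/
noncomputable def pushIso :
    SheafOfModules.pushforward.{u + 1} (sliceRingHom hf E) ⋙
        SheafOfModules.pushforward.{u + 1} (SheafOfModules.pushforwardOver (R := OEtRing Y) E) ≅
      SheafOfModules.pushforward.{u + 1}
          (SheafOfModules.pushforwardOver (R := OEtRing X) ((EtOver.bc hf).obj E)) ⋙ pushModEt hf := by
  refine SheafOfModules.pushforwardComp _ _ ≪≫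
    (SheafOfModules.pushforwardCongr₂ _ (starIso hf E).symm ?_) ≪≫
      (SheafOfModules.pushforwardComp _ _).symm
  ext U : 3
  dsimp
  change ((OEtRing Y).obj.map (Limits.prod.snd : E ⨯ U.unop ⟶ U.unop).op ≫
      (bcRingHom hf).hom.app (op (E ⨯ U.unop))) ≫
        (OEtRing X).obj.map (PreservesLimitPair.iso (EtOver.bc hf) E U.unop).inv.op =
    (bcRingHom hf).hom.app U ≫ (OEtRing X).obj.map
      (Limits.prod.snd : (EtOver.bc hf).obj E ⨯ (EtOver.bc hf).obj U.unop ⟶ (EtOver.bc hf).obj U.unop).op
  rw [(bcRingHom hf).hom.naturality]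
  change ((bcRingHom hf).hom.app U ≫ (OEtRing X).obj.map ((EtOver.bc hf).map _).op) ≫ _ = _
  rw [Category.assoc, ← Functor.map_comp, ← op_comp]
  congr 3
  rw [Iso.inv_comp_eq, PreservesLimitPair.iso_hom]
  exact (prodComparison_snd _ _ _).symm

theorem isRightAdjoint_slice :
    (SheafOfModules.pushforward.{u + 1} (sliceRingHom hf E)).IsRightAdjoint :=
  PullExists.isRightAdjoint_sheaf (sliceRingHom hf E)

/-- The inverse image between slices. -/
noncomputable def slicePull :
    SheafOfModules.{u + 1} ((OEtRing Y).over E) ⥤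
      SheafOfModules.{u + 1} ((OEtRing X).over ((EtOver.bc hf).obj E)) :=
  haveI := isRightAdjoint_slice hf E
  SheafOfModules.pullback (sliceRingHom hf E)

/-- The adjunction between slices. -/
noncomputable def slicePullAdj : slicePull hf E ⊣ SheafOfModules.pushforward.{u + 1} (sliceRingHom hf E) :=
  haveI := isRightAdjoint_slice hf E
  SheafOfModules.pullbackPushforwardAdjunction (sliceRingHom hf E)

/-- Inverse images commute with restriction. -/
noncomputable def overPullIso [(SheafOfModules.pushforward.{u + 1} (bcRingHom hf)).IsRightAdjoint] :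
    pullModEt hf ⋙ SheafOfModules.overFunctor (OEtRing X) ((EtOver.bc hf).obj E) ≅
      SheafOfModules.overFunctor (OEtRing Y) E ⋙ slicePull hf E :=
  ((pullPushAdjModEt hf).comp
      (SheafOfModules.overPushforwardOverAdj (R := OEtRing X) ((EtOver.bc hf).obj E))).leftAdjointUniq
    (((SheafOfModules.overPushforwardOverAdj (R := OEtRing Y) E).comp (slicePullAdj hf E)).ofNatIsoRight
      (pushIso hf E))

instance final_sliceBC : (sliceBC hf E).Final := by
  have : (Functor.fromPUnit.{0} (Over.mk (𝟙 E))).Final :=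
    Functor.final_fromPUnit_of_isTerminal Over.mkIdTerminal
  have : (Functor.fromPUnit.{0} ((sliceBC hf E).obj (Over.mk (𝟙 E)))).Final :=
    Functor.final_fromPUnit_of_isTerminal
      (IsTerminal.ofIso Over.mkIdTerminal
        (Over.isoMk (f := (sliceBC hf E).obj (Over.mk (𝟙 E))) (g := Over.mk (𝟙 ((EtOver.bc hf).obj E)))
          (Iso.refl _) ((Category.id_comp _).trans ((EtOver.bc hf).map_id E).symm)).symm)
  have : (Functor.fromPUnit.{0} (Over.mk (𝟙 E)) ⋙ sliceBC hf E).Final :=
    Functor.final_of_natIso (F := Functor.fromPUnit.{0} ((sliceBC hf E).obj (Over.mk (𝟙 E))))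
      (Discrete.natIso (fun _ => Iso.refl _))
  exact Functor.final_of_final_comp (Functor.fromPUnit.{0} (Over.mk (𝟙 E))) (sliceBC hf E)

/-- Inverse images between slices carry finite presentations to finite presentations. -/
theorem exists_presentation_slicePull {N : SheafOfModules.{u + 1} ((OEtRing Y).over E)}
    (σ : N.Presentation) [σ.IsFinite] :
    ∃ τ : ((slicePull hf E).obj N).Presentation, τ.IsFinite := by
  haveI := isRightAdjoint_slice hf E
  haveI : PreservesColimitsOfSize.{u + 1, u + 1} (slicePull hf E) :=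
    (slicePullAdj hf E).leftAdjoint_preservesColimits
  refine ⟨σ.map (slicePull hf E) (asIso (SheafOfModules.pullbackObjUnitToUnit (sliceRingHom hf E))).symm, ?_⟩
  exact
    { isFiniteType_generators := ⟨inferInstanceAs (Finite σ.generators.I)⟩
      isFiniteType_relations := ⟨inferInstanceAs (Finite σ.relations.I)⟩ }

/-- Base change carries coverings of the small etale site to coverings. -/
theorem coversTop_bc (hY : IsAlgSpace Y) {I : Type (u + 1)} {W : I → EtOver Y} (hW : (etTop Y).CoversTop W) :
    (etTop X).CoversTop fun i => (EtOver.bc hf).obj (W i) := by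
  intro D
  refine (etTop X).transitive (Groth.Agent.Lib.EtMod.coversTop_bcE hf hY D) _ ?_
  intro T g hg
  obtain ⟨E, ⟨k⟩⟩ := (Sieve.mem_ofObjects_iff ..).1 hg
  refine (etTop X).superset_covering ?_ ((etTop X).pullback_stable k
    ((CoverPreserving.of_isContinuous (EtOver.bc hf) (etTop Y) (etTop X)).cover_preserve (hW E.1)))
  rintro Z l ⟨Z', a, b, ha, -⟩
  obtain ⟨i, ⟨c⟩⟩ := (Sieve.mem_ofObjects_iff ..).1 ha
  exact (Sieve.mem_ofObjects_iff ..).mpr ⟨i, ⟨b ≫ (EtOver.bc hf).map c⟩⟩

/-- Presentations of inverse images on slices. -/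
theorem exists_presentation_pull [(SheafOfModules.pushforward.{u + 1} (bcRingHom hf)).IsRightAdjoint]
    (N : ModEt Y) (σ : ((SheafOfModules.overFunctor (OEtRing Y) E).obj N).Presentation) [σ.IsFinite] :
    ∃ τ : ((SheafOfModules.overFunctor (OEtRing X) ((EtOver.bc hf).obj E)).obj
      ((pullModEt hf).obj N)).Presentation, τ.IsFinite := by
  obtain ⟨τ, hτ⟩ := exists_presentation_slicePull hf E σ
  obtain ⟨g, hg⟩ : ∃ g : (slicePull hf E).obj ((SheafOfModules.overFunctor (OEtRing Y) E).obj N) ⟶
      (SheafOfModules.overFunctor (OEtRing X) ((EtOver.bc hf).obj E)).obj ((pullModEt hf).obj N), IsIso g :=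
    ⟨(overPullIso hf E).inv.app N, inferInstance⟩
  exact ⟨τ.ofIsIso g, inferInstance⟩

/-- Inverse images preserve finite presentation. -/
theorem isFinitePresentation_pull (hY : IsAlgSpace Y)
    [(SheafOfModules.pushforward.{u + 1} (bcRingHom hf)).IsRightAdjoint] (N : ModEt Y)
    [N.IsFinitePresentation] : ((pullModEt hf).obj N).IsFinitePresentation := by
  obtain ⟨q, hq⟩ := SheafOfModules.IsFinitePresentation.exists_quasicoherentData (M := N)
  have h : ∀ i, ∃ σ : (((pullModEt hf).obj N).over ((EtOver.bc hf).obj (q.X i))).Presentation, σ.IsFinite :=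
    fun i => exists_presentation_pull hf (q.X i) N (q.presentation i)
  choose σ hσ using h
  let q' : ((pullModEt hf).obj N).QuasicoherentData :=
    { I := q.I, X := fun i => (EtOver.bc hf).obj (q.X i), coversTop := coversTop_bc hf hY q.coversTop,
      presentation := σ }
  haveI : q'.IsFinitePresentation := { isFinite_presentation := hσ }
  exact { exists_quasicoherentData := ⟨q', ‹q'.IsFinitePresentation›⟩ }

end Groth.Agent.H8.SlicePull
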